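import Cfsg.Agent.KFacts.MulM22.Main
import Cfsg.Agent.OddHalf.D9.MultOf

/-!
# The row `M22` of D10 (helper281)

`bd_m22 : Bd 4 IsoM22`: a finite quasisimple group with cyclic centre a 2-group and quotient `M22` has centre of
order dividing 4.
-/

set_option autoImplicit false

namespace Cfsg.Agent.KFacts.MulM22.Row

open Subgroup Cfsg Cfsg.Agent.OddHalf.D9.Cut Cfsg.Agent.OddHalf.D9.MultOf
open Cfsg.Agent.KFacts.MulM22.Eight Cfsg.Agent.KFacts.MulM22.Main

universe u

/-- **The row `M22`.** -/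
theorem bd_m22 : Bd.{u} 4 (fun X _ => Spor.IsoM22 X) := by
  intro K _ hK hX
  obtain ⟨e⟩ := hX
  obtain ⟨hfin, hq, hp, hcyc⟩ := hK
  by_contra hcon
  have : Fact (Nat.Prime 2) := ⟨Nat.prime_two⟩
  obtain ⟨n, hn⟩ := IsPGroup.iff_card.1 hp
  have h8 : 8 ∣ Nat.card ↥(center K) := by
    rw [hn] at hcon ⊢
    have h3 : 3 ≤ n := by
      by_contra h
      exact hcon ((pow_dvd_pow 2 (show n ≤ 2 by omega)).trans (by norm_num))
    exact (show 8 = 2 ^ 3 by norm_num) ▸ pow_dvd_pow 2 h3
  obtain ⟨z, hz⟩ := hcyc.exists_generator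
  have hzz : zpowers (z : K) = center K := by
    apply le_antisymm
    · rw [zpowers_le]; exact z.2
    · intro x hx
      obtain ⟨k, hk⟩ := mem_zpowers_iff.1 (hz ⟨x, hx⟩)
      refine mem_zpowers_iff.2 ⟨k, ?_⟩
      have := congrArg Subtype.val hk
      simpa using this
  refine not_cyc8 (L := K) (π := e.toMonoidHom.comp (QuotientGroup.mk' (center K))) (c := (z : K)) ⟨?_, ?_, ?_, ?_, ?_⟩
  · intro x
    exact (mem_center_iff.1 z.2 x).symm
  · exact e.surjective.comp (QuotientGroup.mk'_surjective _)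
  · intro x
    rw [hzz]
    show e (QuotientGroup.mk' (center K) x) = 1 ↔ _
    rw [map_eq_one_iff e e.injective, QuotientGroup.mk'_apply, QuotientGroup.eq_one_iff]
  · rw [← Nat.card_zpowers, hzz]
    exact h8
  · exact hq.1.commutator_eq_top

end Cfsg.Agent.KFacts.MulM22.Row
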