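import Cfsg.Agent.KFacts.MulM22.Fpf
import Cfsg.Agent.KFacts.MulM22.Row

/-!
# The 2-part of the Schur multiplier of `M22` is cyclic (helper281)

`cyclic_ker`: a perfect central extension of `M22` whose kernel is a finite 2-group has a cyclic kernel.
`card_center_dvd`: the kernel has order dividing 4, without assumption on the kernel.
-/

set_option autoImplicit false
set_option Elab.async false

namespace Cfsg.Agent.KFacts.MulM22.Cyc

open Subgroup Cfsg Cfsg.Spor Cfsg.Agent.SporadicA.GolayBase Cfsg.Agent.SporadicA.GolayPerm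
open Cfsg.Agent.SporadicStructure.M24El
open Cfsg.Agent.KFacts.MulCov Cfsg.Agent.KFacts.MulM22.Eight Cfsg.Agent.KFacts.MulM22.Main
open Cfsg.Agent.KFacts.MulM22.Fpf

universe u

/-- an element of order three, fixed point free on `LE` -/
def pf : ℕ := 971379642845652274390644527914454048

/-- its inverse -/
def pfi : ℕ := 976326094703589562898919214398116896

/-- its conjugate by `s t` -/
def pg : ℕ := 984073772193844595984843817280320544

/-- the inverse of `pg` -/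
def pgi : ℕ := 984562890813525105469318503534858272

/-- `[p1, pf]` generates `LE` modulo `[LE, LD]` -/
def p1 : ℕ := 984561664131678682933695704404628576

/-- `[p2, pf]` is the conjugate by `s` -/
def p2 : ℕ := 984266143084858087375752989286682240

theorem okH : (ok2 pf && ok2 pfi && ok2 pg && ok2 pgi && Nat.beq (pcomp pf pfi) idP && Nat.beq (pcomp pg pgi) idP &&
    (Main.LE.any fun Q => Nat.beq Q p1) && (Main.LE.any fun Q => Nat.beq Q p2) &&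
    Nat.beq (pcomp (pcomp ps pt') pf) (pcomp pg (pcomp ps pt')) && Nat.beq (pcomp pf pg) (pcomp pg pf) &&
    Nat.beq (pcomp pf (pcomp pf pf)) idP) = true := by
  decide +kernel

/-- `[P, pf]` for an involution `P` -/
def kp (P : ℕ) : ℕ := pcomp (pcomp (pcomp P pf) P) pfi

theorem chkH : (Nat.beq (pcomp ps (kp p1)) (pcomp (kp p2) ps) && (Main.LE.all fun P =>
    (Main.LE.any fun Q => Nat.beq (pcomp pf P) (pcomp Q pf)) && (Main.LE.any fun Q => Nat.beq (pcomp P pf) (pcomp pf Q)) &&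
    (Main.LE.any fun Q => Nat.beq (pcomp pg P) (pcomp Q pg)) &&
    (Nat.beq P idP || df (pcomp P pf) (pcomp pf P)) && (Main.LE.any fun Q => Nat.beq (kp Q) P))) = true := by
  decide +kernel

/-- `P Q P⁻¹` for `P = s` -/
def cs (Q : ℕ) : ℕ := pcomp (pcomp ps Q) ps

/-- `r Q r⁻¹` for `r = s t` -/
def cr (Q : ℕ) : ℕ := pcomp (pcomp (pcomp ps pt') Q) (pcomp pt' ps)

theorem chkI : (Main.LE.all fun P => Main.LE.any fun B => Main.LE.any fun C =>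
    Nat.beq P (pcomp (pcomp B (cs B)) (pcomp C (cr C))) ||
    Nat.beq P (pcomp (kp p1) (pcomp (pcomp B (cs B)) (pcomp C (cr C))))) = true := by decide +kernel

theorem chkT : (Nat.beq (pcomp ps ps) idP && Nat.beq (pcomp pt' pt') idP) = true := by decide +kernel

/-- an element of `LE` outside `⟨pa, py⟩` -/
def pd : ℕ := 984365217902686453248235801272398976

theorem chkJ : (ok2 pd && (LC.any fun Q => Nat.beq Q.1 py) && (LC.any fun Q => Nat.beq Q.1 pd) &&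
    (LC.any fun Q => Nat.beq Q.1 (pcomp pa py)) && (LC.any fun Q => Nat.beq Q.1 (pcomp pa pd)) &&
    (LC.any fun Q => Nat.beq Q.1 (pcomp py pd)) &&
    (LC.any fun Q => Nat.beq Q.1 (pcomp pa (pcomp py pd)))) = true := by decide +kernel

theorem okHs : ok2 pf = true ∧ ok2 pfi = true ∧ ok2 pg = true ∧ ok2 pgi = true ∧ pcomp pf pfi = idP ∧
    pcomp pg pgi = idP ∧ p1 ∈ Main.LE ∧ p2 ∈ Main.LE ∧ pcomp (pcomp ps pt') pf = pcomp pg (pcomp ps pt') ∧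
    pcomp pf pg = pcomp pg pf ∧ pcomp pf (pcomp pf pf) = idP := by
  have hk := okH
  simp only [Bool.and_eq_true, List.any_eq_true] at hk
  obtain ⟨⟨⟨⟨⟨⟨⟨⟨⟨⟨h1, h2⟩, h3⟩, h4⟩, h5⟩, h6⟩, ⟨Q, hQ, h7⟩⟩, ⟨R, hR, h8⟩⟩, h9⟩, h10⟩, h11⟩ := hk
  rw [Nat.eq_of_beq_eq_true h7] at hQ
  rw [Nat.eq_of_beq_eq_true h8] at hR
  exact ⟨h1, h2, h3, h4, Nat.eq_of_beq_eq_true h5, Nat.eq_of_beq_eq_true h6, hQ, hR, Nat.eq_of_beq_eq_true h9,
    Nat.eq_of_beq_eq_true h10, Nat.eq_of_beq_eq_true h11⟩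

theorem inv_f : (e2 pf)⁻¹ = e2 pfi := by
  apply inv_eq_of_mul_eq_one_right
  rw [mul_eq1 okHs.1 okHs.2.1 okHs.2.2.2.2.1, e2_idP]

theorem sq_E {P : ℕ} (hP : P ∈ Main.LE) : e2 P * e2 P = 1 := by
  have hk := chkE
  rw [List.all_eq_true] at hk
  have h1 := hk P hP
  rw [Bool.and_eq_true] at h1
  rw [mul_eq1 (okl_E hP) (okl_E hP) (Nat.eq_of_beq_eq_true h1.1), e2_idP]

theorem ok_kp {P : ℕ} (hP : P ∈ Main.LE) : ok2 (kp P) = true :=
  ok2_pcomp (ok2_pcomp (ok2_pcomp (okl_E hP) okHs.1) (okl_E hP)) okHs.2.1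

theorem e2_kp {P : ℕ} (hP : P ∈ Main.LE) : e2 (kp P) = e2 P * e2 pf * (e2 P)⁻¹ * (e2 pf)⁻¹ := by
  have h1 : (e2 P)⁻¹ = e2 P := inv_eq_of_mul_eq_one_left (sq_E hP)
  rw [inv_f, h1]
  unfold kp
  rw [e2_pcomp (ok2_pcomp (ok2_pcomp (okl_E hP) okHs.1) (okl_E hP)) okHs.2.1,
    e2_pcomp (ok2_pcomp (okl_E hP) okHs.1) (okl_E hP), e2_pcomp (okl_E hP) okHs.1]

theorem inv_s : (e2 ps)⁻¹ = e2 ps := by
  have hk := chkT
  rw [Bool.and_eq_true] at hk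
  apply inv_eq_of_mul_eq_one_left
  rw [mul_eq1 ok_s ok_s (Nat.eq_of_beq_eq_true hk.1), e2_idP]

theorem inv_t : (e2 pt')⁻¹ = e2 pt' := by
  have hk := chkT
  rw [Bool.and_eq_true] at hk
  apply inv_eq_of_mul_eq_one_left
  rw [mul_eq1 ok_t ok_t (Nat.eq_of_beq_eq_true hk.2), e2_idP]

theorem ok_cs {P : ℕ} (hP : P ∈ Main.LE) : ok2 (cs P) = true := ok2_pcomp (ok2_pcomp ok_s (okl_E hP)) ok_s

theorem e2_cs {P : ℕ} (hP : P ∈ Main.LE) : e2 (cs P) = e2 ps * e2 P * (e2 ps)⁻¹ := by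
  unfold cs
  rw [e2_pcomp (ok2_pcomp ok_s (okl_E hP)) ok_s, e2_pcomp ok_s (okl_E hP), inv_s]

theorem ok_cr {P : ℕ} (hP : P ∈ Main.LE) : ok2 (cr P) = true :=
  ok2_pcomp (ok2_pcomp ok_r (okl_E hP)) (ok2_pcomp ok_t ok_s)

theorem e2_cr {P : ℕ} (hP : P ∈ Main.LE) : e2 (cr P) = e2 ps * e2 pt' * e2 P * (e2 ps * e2 pt')⁻¹ := by
  unfold cr
  rw [e2_pcomp (ok2_pcomp ok_r (okl_E hP)) (ok2_pcomp ok_t ok_s), e2_pcomp ok_r (okl_E hP), e2_pcomp ok_t ok_s,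
    e2_pcomp ok_s ok_t, mul_inv_rev, inv_s, inv_t]

theorem conj_g : e2 ps * e2 pt' * e2 pf * (e2 ps * e2 pt')⁻¹ = e2 pg := by
  rw [mul_inv_eq_iff_eq_mul, ← e2_pcomp ok_s ok_t]
  exact mul_eq ok_r okHs.1 okHs.2.2.1 ok_r okHs.2.2.2.2.2.2.2.2.1

/-- the configuration -/
theorem conf : Conf (lsub Main.LE okE) (lsub LD okD) (e2 pf) (e2 ps) (e2 pt') (e2 p1) (e2 p2) := by
  obtain ⟨okf, okfi, okg, okgi, hf, hg, m1, m2, hrf, hcom, h3⟩ := okHs
  have hH := chkH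
  rw [Bool.and_eq_true, List.all_eq_true] at hH
  have hF : ∀ P ∈ Main.LE, (∃ Q ∈ Main.LE, pcomp pf P = pcomp Q pf) ∧ (∃ Q ∈ Main.LE, pcomp P pf = pcomp pf Q) ∧
      (∃ Q ∈ Main.LE, pcomp pg P = pcomp Q pg) ∧ (P = idP ∨ df (pcomp P pf) (pcomp pf P) = true) ∧
      (∃ Q ∈ Main.LE, kp Q = P) := by
    intro P hP
    have h1 := hH.2 P hP
    simp only [Bool.and_eq_true, Bool.or_eq_true, List.any_eq_true] at h1
    obtain ⟨⟨⟨⟨⟨Q1, n1, h1⟩, ⟨Q2, n2, h2⟩⟩, ⟨Q3, n3, h3⟩⟩, h4⟩, ⟨Q5, n5, h5⟩⟩ := h1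
    exact ⟨⟨Q1, n1, Nat.eq_of_beq_eq_true h1⟩, ⟨Q2, n2, Nat.eq_of_beq_eq_true h2⟩,
      ⟨Q3, n3, Nat.eq_of_beq_eq_true h3⟩, h4.imp Nat.eq_of_beq_eq_true id, ⟨Q5, n5, Nat.eq_of_beq_eq_true h5⟩⟩
  have hF2 : ∀ P ∈ Main.LE, (∃ Q ∈ Main.LE, pcomp ps P = pcomp Q ps) ∧ (∃ Q ∈ Main.LE, pcomp pt' P = pcomp Q pt') := by
    intro P hP
    have hk := chkF
    rw [List.all_eq_true] at hk
    have h1 := hk P hP
    simp only [Bool.and_eq_true, List.any_eq_true] at h1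
    obtain ⟨⟨Q4, m4, h4⟩, ⟨Q5, m5, h5⟩⟩ := h1
    exact ⟨⟨Q4, m4, Nat.eq_of_beq_eq_true h4⟩, ⟨Q5, m5, Nat.eq_of_beq_eq_true h5⟩⟩
  have hS := chkS
  simp only [Bool.and_eq_true] at hS
  obtain ⟨⟨⟨s6, -⟩, -⟩, -⟩ := hS
  have okrr : ok2 (pcomp (pcomp ps pt') (pcomp ps pt')) = true := ok2_pcomp ok_r ok_r
  refine ⟨?_, ?_, ?_, ?_, ?_, ?_, ?_, ?_, ?_, ?_, ?_, ⟨p1, m1, rfl⟩, ⟨p2, m2, rfl⟩, ?_, ?_, ?_, ?_, index_odd⟩
  · rintro _ ⟨P, hP, rfl⟩
    obtain ⟨Q, hQ, h1⟩ := (hF P hP).1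
    refine ⟨Q, hQ, ?_⟩
    rw [mul_eq okf (okl_E hP) (okl_E hQ) okf h1, mul_inv_cancel_right]
  · rintro _ ⟨P, hP, rfl⟩
    obtain ⟨Q, hQ, h1⟩ := (hF P hP).2.1
    refine ⟨Q, hQ, ?_⟩
    rw [mul_assoc, mul_eq (okl_E hP) okf okf (okl_E hQ) h1, inv_mul_cancel_left]
  · rintro _ ⟨P, hP, rfl⟩ h1
    rcases (hF P hP).2.2.2.1 with h2 | h2
    · rw [h2, e2_idP]
    · rw [← e2_pcomp (okl_E hP) okf, ← e2_pcomp okf (okl_E hP)] at h1
      exact absurd h1 (ne_of_df (ok2_pcomp (okl_E hP) okf) (ok2_pcomp okf (okl_E hP)) h2)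
  · rintro _ ⟨P, hP, rfl⟩
    obtain ⟨Q, hQ, h1⟩ := (hF P hP).2.2.2.2
    refine ⟨e2 Q, ⟨Q, hQ, rfl⟩, ?_⟩
    rw [← e2_kp hQ, h1]
  · rintro _ ⟨P, hP, rfl⟩
    have ms : e2 ps ∈ Subgroup.closure {e2 ps, e2 pt'} := Subgroup.subset_closure (Or.inl rfl)
    have mt : e2 pt' ∈ Subgroup.closure {e2 ps, e2 pt'} := Subgroup.subset_closure (Or.inr rfl)
    have mi : ∀ i : Fin 4, e2 (LD.getD i idP) ∈ Subgroup.closure {e2 ps, e2 pt'} ∧
        e2 (LD.getD (4 + i) idP) ∈ Subgroup.closure {e2 ps, e2 pt'} := fun i => by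
      rw [← (pow_st i).1, ← (pow_st i).2]
      exact ⟨pow_mem (mul_mem ms mt) _, mul_mem (pow_mem (mul_mem ms mt) _) ms⟩
    have hlen : LD.length = 8 := rfl
    obtain ⟨n, hn, hnP⟩ := List.getElem_of_mem hP
    have e : P = LD.getD n idP := by rw [List.getD_eq_getElem _ _ hn, hnP]
    rw [hlen] at hn
    rw [e]
    by_cases h4 : n < 4
    · exact (mi ⟨n, h4⟩).1
    · have := (mi ⟨n - 4, by omega⟩).2
      rwa [show 4 + ((⟨n - 4, by omega⟩ : Fin 4) : ℕ) = n from by show 4 + (n - 4) = n; omega] at this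
  · have : e2 (pcomp (pcomp (pcomp ps pt') (pcomp ps pt')) (pcomp (pcomp ps pt') (pcomp ps pt'))) = 1 := by
      rw [Nat.eq_of_beq_eq_true s6, e2_idP]
    rw [← this, e2_pcomp okrr okrr, e2_pcomp ok_r ok_r, e2_pcomp ok_s ok_t]
    simp only [pow_succ, pow_zero, one_mul, mul_assoc]
  · rintro _ ⟨P, hP, rfl⟩
    obtain ⟨Q, hQ, h1⟩ := (hF2 P hP).1
    refine ⟨Q, hQ, ?_⟩
    rw [mul_eq ok_s (okl_E hP) (okl_E hQ) ok_s h1, mul_inv_cancel_right]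
  · rintro _ ⟨P, hP, rfl⟩
    obtain ⟨Q, hQ, h1⟩ := (hF2 P hP).2
    refine ⟨Q, hQ, ?_⟩
    rw [mul_eq ok_t (okl_E hP) (okl_E hQ) ok_t h1, mul_inv_cancel_right]
  · have : e2 (pcomp pf (pcomp pf pf)) = 1 := by rw [h3, e2_idP]
    rw [e2_pcomp okf (ok2_pcomp okf okf), e2_pcomp okf okf] at this
    rw [← this]
    simp only [pow_succ, pow_zero, one_mul, mul_assoc]
  · rw [conj_g]
    exact mul_eq okf okg okg okf hcom
  · rintro _ ⟨P, hP, rfl⟩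
    rw [conj_g]
    obtain ⟨Q, hQ, h1⟩ := (hF P hP).2.2.1
    refine ⟨Q, hQ, ?_⟩
    rw [mul_eq okg (okl_E hP) (okl_E hQ) okg h1, mul_inv_cancel_right]
  · rw [← e2_kp m1, ← e2_kp m2, mul_inv_eq_iff_eq_mul]
    exact mul_eq ok_s (ok_kp m1) (ok_kp m2) ok_s (Nat.eq_of_beq_eq_true hH.1)
  · rintro _ ⟨P, hP, rfl⟩
    have hk := chkI
    rw [List.all_eq_true] at hk
    have h1 := hk P hP
    rw [List.any_eq_true] at h1
    obtain ⟨B, hB, h1⟩ := h1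
    rw [List.any_eq_true] at h1
    obtain ⟨C, hC, h1⟩ := h1
    refine ⟨e2 B, ⟨B, hB, rfl⟩, e2 C, ⟨C, hC, rfl⟩, ?_⟩
    have ok1 := ok2_pcomp (okl_E hB) (ok_cs hB)
    have ok2' := ok2_pcomp (okl_E hC) (ok_cr hC)
    rw [Bool.or_eq_true] at h1
    rcases h1 with h1 | h1
    · left
      rw [Nat.eq_of_beq_eq_true h1, e2_pcomp ok1 ok2', e2_pcomp (okl_E hB) (ok_cs hB),
        e2_pcomp (okl_E hC) (ok_cr hC), e2_cs hB, e2_cr hC]
    · right
      rw [Nat.eq_of_beq_eq_true h1, e2_pcomp (ok_kp m1) (ok2_pcomp ok1 ok2'), e2_kp m1, e2_pcomp ok1 ok2',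
        e2_pcomp (okl_E hB) (ok_cs hB), e2_pcomp (okl_E hC) (ok_cr hC), e2_cs hB, e2_cr hC]
  · rintro i hi ⟨Q, hQ, h1⟩
    have hk := chkDE'
    simp only [Bool.and_eq_true, Bool.or_eq_true, List.all_eq_true, List.mem_range] at hk
    rw [(pow_st i).1] at h1
    rcases (hk i i.2).1 with h2 | h2
    · exact hi (Fin.ext (Nat.eq_of_beq_eq_true h2))
    · exact ne_of_df (okD_get _) (okl_E hQ) (h2 Q hQ) h1
  · rintro i ⟨Q, hQ, h1⟩
    have hk := chkDE'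
    simp only [Bool.and_eq_true, Bool.or_eq_true, List.all_eq_true, List.mem_range] at hk
    rw [(pow_st i).2] at h1
    exact ne_of_df (okD_get _) (okl_E hQ) ((hk i i.2).2 Q hQ) h1

section

variable {L : Type*} [Group L] {π : L →* M22} {c : L}

theorem good_A (h : Ext π c) : Good π (e2 pa) := by
  have hk := chkJ
  simp only [Bool.and_eq_true] at hk
  obtain ⟨⟨⟨⟨⟨⟨h0, h1⟩, h2⟩, h3⟩, h4⟩, h5⟩, h6⟩ := hk
  refine h.good_of_seven (b := e2 py) (d := e2 pd) aa (conj_C h1) (conj_C h2) ?_ ?_ ?_ ?_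
  · rw [← e2_pcomp ok_a ok_y]; exact conj_C h3
  · rw [← e2_pcomp ok_a h0]; exact conj_C h4
  · rw [← e2_pcomp ok_y h0]; exact conj_C h5
  · rw [← e2_pcomp ok_y h0, ← e2_pcomp ok_a (ok2_pcomp ok_y h0)]; exact conj_C h6

theorem good_C (h : Ext π c) {P : ℕ} (hP : (LC.any fun Q => Nat.beq Q.1 P) = true) : Good π (e2 P) :=
  (good_A h).of_isConj h aa (conj_C hP)

theorem good_E (h : Ext π c) {P : ℕ} (hP : P ∈ Main.LE) : Good π (e2 P) := by
  have hk := chkE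
  rw [List.all_eq_true] at hk
  have h1 := hk P hP
  simp only [Bool.and_eq_true, Bool.or_eq_true] at h1
  rcases h1.2 with (h1 | h1) | h1
  · rw [Nat.eq_of_beq_eq_true h1, e2_idP]
    intro x hx
    rcases (h.ker x).1 hx with rfl | rfl
    · rw [one_mul]
    · exact h.sq
  · rw [Nat.eq_of_beq_eq_true h1]; exact good_A h
  · exact good_C h h1

/-- **A perfect central extension of `M22` whose kernel is a 2-group has a cyclic kernel.** -/
theorem cyclic_ker {K : Type u} [Group K] [Finite K] {π : K →* M22} (hs : Function.Surjective π)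
    (hp : commutator K = ⊤) (hcen : ∀ z ∈ π.ker, ∀ x, z * x = x * z) (h2 : IsPGroup 2 π.ker) : IsCyclic π.ker := by
  refine cyclic_of_fpf hs hp hcen h2 conf ?_
  intro L _ _ π' c h
  have hS := chkS
  simp only [Bool.and_eq_true] at hS
  obtain ⟨⟨⟨-, s7⟩, s8⟩, s9⟩ := hS
  refine ⟨?_, good_C h.toExt s7, good_C h.toExt s8, ?_⟩
  · rintro _ ⟨P, hP, rfl⟩
    exact good_E h.toExt hP
  · rw [← e2_pcomp ok_s ok_t, ← e2_pcomp ok_r ok_r]
    exact good_C h.toExt s9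

/-- `center K` is cyclic -/
theorem cyclic_center {K : Type u} [Group K] [Finite K] (hp : commutator K = ⊤) (h2 : IsPGroup 2 ↥(center K))
    (hX : Spor.IsoM22 (K ⧸ center K)) : IsCyclic ↥(center K) := by
  obtain ⟨e⟩ := hX
  have hker : (e.toMonoidHom.comp (QuotientGroup.mk' (center K))).ker = center K := by
    ext x
    rw [MonoidHom.mem_ker]
    show e (QuotientGroup.mk' (center K) x) = 1 ↔ _
    rw [map_eq_one_iff e e.injective, QuotientGroup.mk'_apply, QuotientGroup.eq_one_iff]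
  have h1 := cyclic_ker (π := e.toMonoidHom.comp (QuotientGroup.mk' (center K)))
    (e.surjective.comp (QuotientGroup.mk'_surjective _)) hp (by
      intro z hz x
      rw [hker] at hz
      exact (mem_center_iff.1 hz x).symm) (by rw [hker]; exact h2)
  rwa [hker] at h1

end

end Cfsg.Agent.KFacts.MulM22.Cyc
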