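import Cfsg.Agent.KFacts.MulM23.Split

/-!
# Central extensions with cyclic kernel of order divisible by 8 (helper281)

`Cyc8 π ζ` : `π : K → X` is onto, `K` is perfect, the kernel `⟨ζ⟩` is central and `8 ∣ orderOf ζ`.

`Cyc8.false_of` : impossible if `X` has a subgroup `E : D₈` of odd index, `E` elementary abelian, `D₈ = ⟨s, t⟩`, such
that the involutions of `E` and `s`, `t`, `(s t) ^ 2` are conjugate in `X` to the involutions of a four-group.
(The elements `n` over `E` with `n² ∈ ⟨ζ ^ 4⟩` form a subgroup `M` with `ζ ∉ M`, and `M ⟨S, T⟩` does not contain `ζ`.)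
-/

set_option autoImplicit false

namespace Cfsg.Agent.KFacts.MulM22.Eight

open Subgroup
open Cfsg.Agent.KFacts.MulCov
open Cfsg.Agent.KFacts.MulM23.Split (prod mem_prod mem_closure_pair)

universe u v

variable {K : Type u} {X : Type v} [Group K] [Group X] {π : K →* X} {ζ : K}

/-- A perfect central extension with cyclic kernel of order divisible by 8. -/
structure Cyc8 (π : K →* X) (ζ : K) : Prop where
  cen : ∀ x, ζ * x = x * ζ
  surj : Function.Surjective π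
  ker : ∀ x, π x = 1 ↔ x ∈ zpowers ζ
  ord : 8 ∣ orderOf ζ
  perf : commutator K = ⊤

namespace Cyc8

theorem comm (H : Cyc8 π ζ) {w : K} (hw : w ∈ zpowers ζ) (x : K) : w * x = x * w := by
  obtain ⟨k, rfl⟩ := mem_zpowers_iff.1 hw
  exact (Commute.zpow_left (H.cen x) k)

theorem le_two : zpowers (ζ ^ 2) ≤ zpowers ζ := by
  rw [zpowers_le]; exact pow_mem (mem_zpowers ζ) 2

theorem four_le_two : zpowers (ζ ^ 4) ≤ zpowers (ζ ^ 2) := by
  rw [zpowers_le, show (4 : ℕ) = 2 * 2 from rfl, pow_mul]; exact pow_mem (mem_zpowers _) 2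

theorem zpow_mem_two (H : Cyc8 π ζ) {k : ℤ} : ζ ^ k ∈ zpowers (ζ ^ 2) ↔ Even k := by
  constructor
  · intro h
    obtain ⟨j, hj⟩ := mem_zpowers_iff.1 h
    have h1 : ζ ^ (2 * j - k) = 1 := by
      rw [zpow_sub, zpow_mul, ← hj, zpow_ofNat, mul_inv_cancel]
    have h2 : (8 : ℤ) ∣ 2 * j - k :=
      (Int.natCast_dvd_natCast.2 H.ord).trans (orderOf_dvd_iff_zpow_eq_one.2 h1)
    obtain ⟨i, hi⟩ := h2
    exact ⟨j - 4 * i, by omega⟩
  · rintro ⟨j, rfl⟩
    refine mem_zpowers_iff.2 ⟨j, ?_⟩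
    rw [← zpow_natCast, ← zpow_mul]; congr 1; push_cast; ring

theorem zeta_not (H : Cyc8 π ζ) : ζ ^ 2 ∉ zpowers (ζ ^ 4) := by
  intro h
  obtain ⟨j, hj⟩ := mem_zpowers_iff.1 h
  have h1 : ζ ^ (4 * j - 2) = 1 := by
    rw [zpow_sub, zpow_mul]
    rw [show ζ ^ (4 : ℤ) = ζ ^ 4 from zpow_ofNat ζ 4, show ζ ^ (2 : ℤ) = ζ ^ 2 from zpow_ofNat ζ 2, hj,
      mul_inv_cancel]
  have h2 : (8 : ℤ) ∣ 4 * j - 2 :=
    (Int.natCast_dvd_natCast.2 H.ord).trans (orderOf_dvd_iff_zpow_eq_one.2 h1)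
  omega

/-- an element of order at most 2 of the kernel is a fourth power -/
theorem invol_mem (H : Cyc8 π ζ) {w : K} (hw : w ∈ zpowers ζ) (h2 : w * w = 1) : w ∈ zpowers (ζ ^ 4) := by
  obtain ⟨k, rfl⟩ := mem_zpowers_iff.1 hw
  rw [← zpow_add] at h2
  have h3 : (8 : ℤ) ∣ k + k :=
    (Int.natCast_dvd_natCast.2 H.ord).trans (orderOf_dvd_iff_zpow_eq_one.2 h2)
  obtain ⟨j, hj⟩ : (4 : ℤ) ∣ k := by omega
  refine mem_zpowers_iff.2 ⟨j, ?_⟩
  rw [hj, zpow_mul, show ζ ^ (4 : ℤ) = ζ ^ 4 from zpow_ofNat ζ 4]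

/-- commutators of elements with commuting images, one of them with central square -/
theorem kap_mem (H : Cyc8 π ζ) {a b : K} (hab : π a * π b = π b * π a) (ha : a * a ∈ zpowers ζ) :
    a⁻¹ * b * a * b⁻¹ ∈ zpowers (ζ ^ 4) := by
  have h1 : a⁻¹ * b * a * b⁻¹ ∈ zpowers ζ := by
    rw [← H.ker, map_mul, map_mul, map_mul, map_inv, map_inv]
    calc (π a)⁻¹ * π b * π a * (π b)⁻¹ = (π a)⁻¹ * (π b * π a) * (π b)⁻¹ := by group
      _ = 1 := by rw [← hab]; group
  apply H.invol_mem h1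
  have h2 := H.comm h1
  have h3 := H.comm ha
  have e1 : a⁻¹ * b * a = (a⁻¹ * b * a * b⁻¹) * b := by group
  calc a⁻¹ * b * a * b⁻¹ * (a⁻¹ * b * a * b⁻¹) = (a⁻¹ * b * a * b⁻¹) * a⁻¹ * (b * a * b⁻¹) := by group
    _ = a⁻¹ * (a⁻¹ * b * a * b⁻¹) * (b * a * b⁻¹) := by rw [h2]
    _ = (a * a)⁻¹ * b * (a * a) * b⁻¹ := by group
    _ = (a * a)⁻¹ * (b * (a * a)) * b⁻¹ := by group
    _ = (a * a)⁻¹ * ((a * a) * b) * b⁻¹ := by rw [h3]
    _ = 1 := by group

/-- every preimage has its square in `⟨ζ²⟩` -/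
def Good (π : K →* X) (ζ : K) (x : X) : Prop := ∀ a, π a = x → a * a ∈ zpowers (ζ ^ 2)

theorem sq_mul (H : Cyc8 π ζ) {k w : K} (hw : w ∈ zpowers ζ) : (k * w) * (k * w) = (k * k) * (w * w) := by
  calc k * w * (k * w) = k * (w * k) * w := by group
    _ = k * (k * w) * w := by rw [H.comm hw]
    _ = _ := by group

theorem sq_mem_two {w : K} (hw : w ∈ zpowers ζ) : w * w ∈ zpowers (ζ ^ 2) := by
  obtain ⟨k, rfl⟩ := mem_zpowers_iff.1 hw
  refine mem_zpowers_iff.2 ⟨k, ?_⟩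
  rw [← zpow_natCast, ← zpow_mul, ← zpow_add]; congr 1; push_cast; ring

theorem good_of (H : Cyc8 π ζ) {a : K} (ha : a * a ∈ zpowers (ζ ^ 2)) : Good π ζ (π a) := by
  intro b hb
  have h1 : a⁻¹ * b ∈ zpowers ζ := by rw [← H.ker, map_mul, map_inv, hb, inv_mul_cancel]
  have h2 : b = a * (a⁻¹ * b) := by group
  rw [h2, H.sq_mul h1]
  exact mul_mem ha (sq_mem_two h1)

theorem good_conj (H : Cyc8 π ζ) {x y : X} (h : IsConj x y) (hx : x * x = 1) (hg : Good π ζ x) : Good π ζ y := by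
  obtain ⟨g, hg2⟩ := isConj_iff.1 h
  obtain ⟨a, rfl⟩ := H.surj x
  obtain ⟨g, rfl⟩ := H.surj g
  have h1 := hg a rfl
  have h2 : Good π ζ (π (g * a * g⁻¹)) := by
    apply H.good_of
    have h3 : g * a * g⁻¹ * (g * a * g⁻¹) = a * a := by
      have h4 : a * a ∈ zpowers ζ := by rw [← H.ker, map_mul, hx]
      calc g * a * g⁻¹ * (g * a * g⁻¹) = g * (a * a) * g⁻¹ := by group
        _ = (a * a) * g * g⁻¹ := by rw [H.comm h4]
        _ = a * a := by group
    rw [h3]; exact h1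
  rw [map_mul, map_mul, map_inv, hg2] at h2
  exact h2

/-- involutions `x`, `y`, `x y`, conjugate in `X`: they are good -/
theorem good_four (H : Cyc8 π ζ) {x y : X} (hx : x * x = 1) (hy : y * y = 1) (hxy : x * y = y * x)
    (h1 : IsConj x y) (h2 : IsConj x (x * y)) : Good π ζ x := by
  by_contra hcon
  have hx' : Good π ζ y → False := fun h => hcon (H.good_conj h1.symm hy h)
  obtain ⟨a, rfl⟩ := H.surj x
  obtain ⟨b, rfl⟩ := H.surj y
  have ha : a * a ∈ zpowers ζ := by rw [← H.ker, map_mul, hx]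
  have hb : b * b ∈ zpowers ζ := by rw [← H.ker, map_mul, hy]
  have ha2 : a * a ∉ zpowers (ζ ^ 2) := fun h => hcon (H.good_of h)
  have hb2 : b * b ∉ zpowers (ζ ^ 2) := fun h => hx' (H.good_of h)
  have hab : (a * a) * (b * b) ∈ zpowers (ζ ^ 2) := by
    obtain ⟨i, hi⟩ := mem_zpowers_iff.1 ha
    obtain ⟨j, hj⟩ := mem_zpowers_iff.1 hb
    rw [← hi, H.zpow_mem_two] at ha2
    rw [← hj, H.zpow_mem_two] at hb2
    rw [← hi, ← hj, ← zpow_add, H.zpow_mem_two]
    rw [Int.not_even_iff_odd] at ha2 hb2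
    exact ha2.add_odd hb2
  have hk := four_le_two (H.kap_mem hxy ha)
  have hsq : (a * b) * (a * b) ∈ zpowers (ζ ^ 2) := by
    have e : (a * b) * (a * b) = (a * a) * (a⁻¹ * b * a * b⁻¹) * (b * b) := by group
    rw [e, H.comm (mul_mem ha (le_two hk)) (b * b), ← mul_assoc, ← H.comm ha (b * b)]
    exact mul_mem hab hk
  have h3 : Good π ζ (π a * π b) := by
    have := H.good_of hsq
    rwa [map_mul] at this
  have hsq1 : π a * π b * (π a * π b) = 1 := by
    calc π a * π b * (π a * π b) = π a * (π b * π a) * π b := by group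
      _ = π a * (π a * π b) * π b := by rw [hxy]
      _ = (π a * π a) * (π b * π b) := by group
      _ = 1 := by rw [hx, hy, one_mul]
  exact hcon (H.good_conj h2.symm hsq1 h3)

theorem exists_lift (H : Cyc8 π ζ) {x : X} (h : Good π ζ x) : ∃ a, π a = x ∧ a * a = 1 := by
  obtain ⟨a, rfl⟩ := H.surj x
  obtain ⟨k, hk⟩ := mem_zpowers_iff.1 (h a rfl)
  have h1 : ζ ^ (-k) ∈ zpowers ζ := zpow_mem (mem_zpowers ζ) _
  refine ⟨a * ζ ^ (-k), ?_, ?_⟩
  · rw [map_mul, (H.ker _).2 h1, mul_one]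
  · rw [H.sq_mul h1, ← hk, ← zpow_natCast, ← zpow_mul, ← zpow_add, ← zpow_add]
    rw [show ((2 : ℕ) : ℤ) * k + (-k + -k) = 0 by push_cast; ring, zpow_zero]

/-- The elements over `E` with square in `⟨ζ⁴⟩`. -/
def M (H : Cyc8 π ζ) (E : Subgroup X) (hE : ∀ a ∈ E, a * a = 1) (hc : ∀ a ∈ E, ∀ b ∈ E, a * b = b * a) :
    Subgroup K where
  carrier := {n | π n ∈ E ∧ n * n ∈ zpowers (ζ ^ 4)}
  one_mem' := ⟨by rw [map_one]; exact one_mem _, by rw [one_mul]; exact one_mem _⟩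
  mul_mem' := by
    rintro a b ⟨ha, ha2⟩ ⟨hb, hb2⟩
    refine ⟨by rw [map_mul]; exact mul_mem ha hb, ?_⟩
    have hk := H.kap_mem (a := a) (b := b) (hc _ ha _ hb) (le_two (four_le_two ha2))
    have e : (a * b) * (a * b) = (a * a) * (a⁻¹ * b * a * b⁻¹) * (b * b) := by group
    rw [e]
    exact mul_mem (mul_mem ha2 hk) hb2
  inv_mem' := by
    rintro a ⟨ha, ha2⟩
    refine ⟨by rw [map_inv]; exact inv_mem ha, ?_⟩
    rw [← mul_inv_rev]
    exact inv_mem ha2

theorem mem_M {H : Cyc8 π ζ} {E : Subgroup X} {hE : ∀ a ∈ E, a * a = 1} {hc : ∀ a ∈ E, ∀ b ∈ E, a * b = b * a}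
    {n : K} : n ∈ H.M E hE hc ↔ π n ∈ E ∧ n * n ∈ zpowers (ζ ^ 4) := Iff.rfl

theorem zeta_notMem {H : Cyc8 π ζ} {E : Subgroup X} {hE : ∀ a ∈ E, a * a = 1}
    {hc : ∀ a ∈ E, ∀ b ∈ E, a * b = b * a} : ζ ∉ H.M E hE hc := by
  intro h
  apply H.zeta_not
  rw [pow_two]
  exact h.2

theorem two_le_M {H : Cyc8 π ζ} {E : Subgroup X} {hE : ∀ a ∈ E, a * a = 1}
    {hc : ∀ a ∈ E, ∀ b ∈ E, a * b = b * a} : zpowers (ζ ^ 2) ≤ H.M E hE hc := by
  rw [zpowers_le]
  refine ⟨?_, ?_⟩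
  · rw [(H.ker _).2 (pow_mem (mem_zpowers ζ) 2)]; exact one_mem _
  · rw [← pow_add]; exact mem_zpowers _

theorem conj_M {H : Cyc8 π ζ} {E : Subgroup X} {hE : ∀ a ∈ E, a * a = 1}
    {hc : ∀ a ∈ E, ∀ b ∈ E, a * b = b * a} {S : K} (hS : ∀ a ∈ E, π S * a * (π S)⁻¹ ∈ E) {n : K}
    (hn : n ∈ H.M E hE hc) : S * n * S⁻¹ ∈ H.M E hE hc := by
  refine ⟨?_, ?_⟩
  · rw [map_mul, map_mul, map_inv]
    exact hS _ hn.1
  · have h1 : S * n * S⁻¹ * (S * n * S⁻¹) = n * n := by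
      calc S * n * S⁻¹ * (S * n * S⁻¹) = S * (n * n) * S⁻¹ := by group
        _ = (n * n) * S * S⁻¹ := by rw [H.comm (le_two (four_le_two hn.2))]
        _ = n * n := by group
    rw [h1]
    exact hn.2

/-- the double cover `K / ⟨ζ²⟩` -/
theorem cov (H : Cyc8 π ζ) : ∃ (N : Subgroup K) (_ : N.Normal) (π' : K ⧸ N →* X), N = zpowers (ζ ^ 2) ∧
    (∀ x, π' (QuotientGroup.mk' N x) = π x) ∧ Cov π' (QuotientGroup.mk' N ζ) := by
  have hn : (zpowers (ζ ^ 2)).Normal := ⟨fun n hn g => by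
    rw [← H.comm (le_two hn), mul_inv_cancel_right]; exact hn⟩
  have hle : zpowers (ζ ^ 2) ≤ π.ker := fun x hx => (H.ker x).2 (le_two hx)
  refine ⟨zpowers (ζ ^ 2), hn, QuotientGroup.lift _ π hle, rfl, fun x => rfl, ⟨?_, ?_, ?_, ?_, ?_⟩, ?_⟩
  · intro h
    rw [QuotientGroup.mk'_apply, QuotientGroup.eq_one_iff] at h
    have h1 : ζ ^ (1 : ℤ) ∈ zpowers (ζ ^ 2) := by rwa [zpow_one]
    rw [H.zpow_mem_two] at h1
    exact absurd h1 (by decide)
  · rw [← map_mul, ← pow_two, QuotientGroup.mk'_apply, QuotientGroup.eq_one_iff]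
    exact mem_zpowers _
  · intro x
    obtain ⟨x, rfl⟩ := QuotientGroup.mk'_surjective _ x
    rw [← map_mul, ← map_mul, H.cen]
  · intro x
    obtain ⟨y, rfl⟩ := H.surj x
    exact ⟨QuotientGroup.mk' _ y, rfl⟩
  · intro x
    obtain ⟨x, rfl⟩ := QuotientGroup.mk'_surjective _ x
    show π x = 1 ↔ _
    rw [H.ker]
    constructor
    · intro hx
      obtain ⟨k, rfl⟩ := mem_zpowers_iff.1 hx
      rcases Int.even_or_odd k with hk | hk
      · left
        rw [QuotientGroup.mk'_apply, QuotientGroup.eq_one_iff]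
        exact H.zpow_mem_two.2 hk
      · right
        rw [QuotientGroup.mk'_apply, QuotientGroup.mk'_apply, QuotientGroup.eq]
        obtain ⟨j, hj⟩ := hk
        have e : (ζ ^ k)⁻¹ * ζ = ζ ^ (-k + 1) := by rw [zpow_add, zpow_neg, zpow_one]
        rw [e, H.zpow_mem_two]
        exact ⟨-j, by omega⟩
    · rintro (hx | hx)
      · rw [QuotientGroup.mk'_apply, QuotientGroup.eq_one_iff] at hx
        exact le_two hx
      · rw [QuotientGroup.mk'_apply, QuotientGroup.mk'_apply, QuotientGroup.eq] at hx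
        have h1 := mul_mem (mem_zpowers ζ) (inv_mem (le_two hx))
        have e : ζ * (x⁻¹ * ζ)⁻¹ = x := by group
        rwa [e] at h1
  · rw [commutator_def, ← Subgroup.map_top_of_surjective _ (QuotientGroup.mk'_surjective _),
      ← Subgroup.map_commutator, ← commutator_def, H.perf]

/-- **Central extensions by a cyclic group of order divisible by 8.** -/
theorem false_of [Finite K] (H : Cyc8 π ζ) {E D : Subgroup X} {s t : X} (hE : ∀ a ∈ E, a * a = 1)
    (good : ∀ a ∈ E, Good π ζ a) (hD : D ≤ closure {s, t})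
    (hs : Good π ζ s) (ht : Good π ζ t) (h2 : Good π ζ (s * t * (s * t))) (h4 : (s * t) ^ 4 = 1)
    (hsE : ∀ a ∈ E, s * a * s⁻¹ ∈ E) (htE : ∀ a ∈ E, t * a * t⁻¹ ∈ E)
    (hED : ∀ i : Fin 4, i ≠ 0 → (s * t) ^ (i : ℕ) ∉ E) (hED' : ∀ i : Fin 4, (s * t) ^ (i : ℕ) * s ∉ E)
    (hP : ¬ 2 ∣ (E ⊔ D).index) : False := by
  have hc : ∀ a ∈ E, ∀ b ∈ E, a * b = b * a := by
    intro a ha b hb
    have h3 := hE (a * b) (mul_mem ha hb)
    calc a * b = (a * b)⁻¹ := (inv_eq_of_mul_eq_one_left h3).symm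
      _ = b * a := by
        rw [mul_inv_rev, inv_eq_of_mul_eq_one_left (hE a ha), inv_eq_of_mul_eq_one_left (hE b hb)]
  obtain ⟨S, hS, hSS⟩ := H.exists_lift hs
  obtain ⟨T, hT, hTT⟩ := H.exists_lift ht
  set M := H.M E hE hc with hM
  have nS : ∀ x ∈ M, S * x * S⁻¹ ∈ M := fun x hx => conj_M (by rw [hS]; exact hsE) hx
  have nT : ∀ x ∈ M, T * x * T⁻¹ ∈ M := fun x hx => conj_M (by rw [hT]; exact htE) hx
  have hn : ∀ b ∈ closure {S, T}, ∀ a ∈ M, b * a * b⁻¹ ∈ M := by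
    have hle : closure {S, T} ≤ normalizer (M : Set K) := by
      rw [closure_le]
      have key : ∀ U : K, U * U = 1 → (∀ x ∈ M, U * x * U⁻¹ ∈ M) → U ∈ normalizer (M : Set K) := by
        intro U hU hx
        rw [mem_normalizer_iff]
        intro x
        refine ⟨hx x, fun h1 => ?_⟩
        have h3 := hx _ h1
        have e : U * (U * x * U⁻¹) * U⁻¹ = (U * U) * x * (U * U)⁻¹ := by group
        rw [e, hU, one_mul, inv_one, mul_one] at h3
        exact h3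
      rintro x (rfl | hx)
      · exact key _ hSS nS
      · obtain rfl : x = T := hx
        exact key _ hTT nT
    intro b hb a ha
    exact (mem_normalizer_iff.1 (hle hb) a).1 ha
  have hR4 : (S * T) ^ (4 : ℤ) ∈ zpowers (ζ ^ 2) := by
    have h3 : (S * T * (S * T)) * (S * T * (S * T)) ∈ zpowers (ζ ^ 2) := h2 _ (by rw [map_mul, map_mul, hS, hT])
    have e : (S * T) ^ (4 : ℤ) = (S * T * (S * T)) * (S * T * (S * T)) := by
      rw [show (4 : ℤ) = ((4 : ℕ) : ℤ) from rfl, zpow_natCast]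
      simp only [pow_succ, pow_zero, one_mul, mul_assoc]
    rw [e]; exact h3
  -- `ζ` is not in `M ⟨S, T⟩`
  have hζ : ζ ∉ prod M (closure {S, T}) hn := by
    rintro ⟨a, ha, d, hd, hcd⟩
    obtain ⟨i, hi⟩ := mem_closure_pair hSS hTT hd
    have hdE : π d ∈ E := by
      have h3 : d = a⁻¹ * ζ := by rw [hcd]; group
      rw [h3, map_mul, (H.ker ζ).2 (mem_zpowers ζ), mul_one, map_inv]
      exact inv_mem ha.1
    have hlt : (i % 4).toNat < 4 := by
      have := Int.emod_lt_of_pos i (show (0 : ℤ) < 4 by norm_num)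
      have h3 := Int.emod_nonneg i (show (4 : ℤ) ≠ 0 by norm_num)
      omega
    have hmod : (s * t) ^ i = (s * t) ^ ((i % 4).toNat) := by
      have h3 : ((i % 4).toNat : ℤ) = i % 4 := Int.toNat_of_nonneg (Int.emod_nonneg _ (by norm_num))
      rw [← zpow_natCast, h3]
      conv_lhs => rw [← Int.mul_ediv_add_emod i 4]
      rw [zpow_add, zpow_mul]
      have : (s * t) ^ (4 : ℤ) = 1 := by exact_mod_cast h4
      rw [this, one_zpow, one_mul]
    have hST : ∀ n : ℤ, π ((S * T) ^ n) = (s * t) ^ n := fun n => by rw [map_zpow, map_mul, hS, hT]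
    rcases hi with rfl | rfl
    · rw [hST, hmod] at hdE
      by_cases h0 : (⟨(i % 4).toNat, hlt⟩ : Fin 4) = 0
      · have h00 : (i % 4).toNat = 0 := congrArg Fin.val h0
        have h3 := Int.emod_nonneg i (show (4 : ℤ) ≠ 0 by norm_num)
        obtain ⟨j, hj⟩ : (4 : ℤ) ∣ i := by omega
        have h5 : (S * T) ^ i ∈ M := by
          rw [hj, zpow_mul]
          exact two_le_M (zpow_mem hR4 j)
        have h6 := mul_mem ha h5
        rw [← hcd] at h6
        exact zeta_notMem h6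
      · exact hED ⟨_, hlt⟩ h0 hdE
    · rw [map_mul, hST, hS, hmod] at hdE
      exact hED' ⟨_, hlt⟩ hdE
  obtain ⟨N, hNn, π', hN, hπ', hcov⟩ := H.cov
  have hfin : Finite (K ⧸ N) := inferInstance
  refine hcov.false_of_subgroup hP (P₁ := (prod M (closure {S, T}) hn).map (QuotientGroup.mk' N)) ?_ ?_
  · rintro ⟨p, hp, hpc⟩
    rw [QuotientGroup.mk'_apply, QuotientGroup.mk'_apply, QuotientGroup.eq, hN] at hpc
    apply hζ
    have h1 : p⁻¹ * ζ ∈ prod M (closure {S, T}) hn := ⟨_, two_le_M hpc, 1, one_mem _, by rw [mul_one]⟩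
    have h2 := mul_mem hp h1
    rwa [mul_inv_cancel_left] at h2
  · have hmap : ∀ p ∈ prod M (closure {S, T}) hn,
        π p ∈ ((prod M (closure {S, T}) hn).map (QuotientGroup.mk' N)).map π' := by
      intro p hp
      exact ⟨QuotientGroup.mk' N p, ⟨p, hp, rfl⟩, hπ' p⟩
    rw [sup_le_iff]
    constructor
    · intro a ha
      obtain ⟨y, hy, hyy⟩ := H.exists_lift (good a ha)
      rw [← hy]
      apply hmap
      refine ⟨y, ⟨by rw [hy]; exact ha, by rw [hyy]; exact one_mem _⟩, 1, one_mem _, by rw [mul_one]⟩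
    · refine hD.trans ?_
      rw [closure_le]
      rintro x (rfl | hx)
      · rw [← hS]
        exact hmap _ ⟨1, one_mem _, S, subset_closure (Or.inl rfl), by rw [one_mul]⟩
      · obtain rfl : x = t := hx
        rw [← hT]
        exact hmap _ ⟨1, one_mem _, T, subset_closure (Or.inr rfl), by rw [one_mul]⟩

end Cyc8

end Cfsg.Agent.KFacts.MulM22.Eight
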