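import Cfsg.Agent.KFacts.MulM23.Split

/-!
# The obstruction is one-dimensional (helper281)

`Fpf.ne_of_fpf`: in a perfect double cover of `X` (with `E : D₈` of odd index, `E` elementary abelian, `r = s t`, `f` of
odd order, fixed point free on `E`, commuting with `r f r⁻¹`, `|E : [E, D₈]| = 2`, `e₁ = [a₁, f]` generating `E` modulo
`[E, D₈]`, `s e₁ s⁻¹ = [a₂, f]`), `S [y₁, F] S⁻¹ ≠ [y₂, F]` for all lifts `F`, `S`, `y₁`, `y₂`.

`Fpf.cyclic_of_fpf`: so a perfect central extension of `X` with kernel a 2-group has a cyclic kernel.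
-/

set_option autoImplicit false

namespace Cfsg.Agent.KFacts.MulM22.Fpf

open Subgroup
open Cfsg.Agent.KFacts.MulCov
open Cfsg.Agent.KFacts.MulM23.Split

universe u v

/-- The configuration in `X`. -/
structure Conf {X : Type v} [Group X] (E D : Subgroup X) (f s t a₁ a₂ : X) : Prop where
  fE : ∀ a ∈ E, f * a * f⁻¹ ∈ E
  fE' : ∀ a ∈ E, f⁻¹ * a * f ∈ E
  fp : ∀ a ∈ E, a * f = f * a → a = 1
  surj : ∀ a ∈ E, ∃ b ∈ E, b * f * b⁻¹ * f⁻¹ = a
  hD : D ≤ closure {s, t}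
  h4 : (s * t) ^ 4 = 1
  sE : ∀ a ∈ E, s * a * s⁻¹ ∈ E
  tE : ∀ a ∈ E, t * a * t⁻¹ ∈ E
  odd : f ^ 3 = 1
  comm : f * (s * t * f * (s * t)⁻¹) = s * t * f * (s * t)⁻¹ * f
  rfE : ∀ a ∈ E, (s * t * f * (s * t)⁻¹) * a * (s * t * f * (s * t)⁻¹)⁻¹ ∈ E
  m1 : a₁ ∈ E
  m2 : a₂ ∈ E
  e2 : s * (a₁ * f * a₁⁻¹ * f⁻¹) * s⁻¹ = a₂ * f * a₂⁻¹ * f⁻¹
  gen : ∀ a ∈ E, ∃ b ∈ E, ∃ d ∈ E, a = b * (s * b * s⁻¹) * (d * (s * t * d * (s * t)⁻¹)) ∨
    a = (a₁ * f * a₁⁻¹ * f⁻¹) * (b * (s * b * s⁻¹) * (d * (s * t * d * (s * t)⁻¹)))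
  ED : ∀ i : Fin 4, i ≠ 0 → (s * t) ^ (i : ℕ) ∉ E
  ED' : ∀ i : Fin 4, (s * t) ^ (i : ℕ) * s ∉ E
  ind : ¬ 2 ∣ (E ⊔ D).index

variable {L : Type u} {X : Type v} [Group L] [Group X] {π : L →* X} {c : L}

section

variable {E D : Subgroup X} {f s t a₁ a₂ : X}

/-- the second half of `false_of_fpf`: `S`, `T` normalise the complement -/
theorem false_of_norm [Finite L] (h : Cov π c) (hc : Conf E D f s t a₁ a₂) {F S T : L} (hF : π F = f) (hS : π S = s)
    (hT : π T = t) (hSS : S * S = 1) (hTT : T * T = 1) (h2 : (S * T * (S * T)) * (S * T * (S * T)) = 1)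
    (hcom : ∀ a b : L, π a ∈ E → π b ∈ E → a * b = b * a) (hk : ∀ y : L, π y ∈ E → π (kap F y) ∈ E)
    (nS : ∀ x ∈ Eh E F hcom hk, S * x * S⁻¹ ∈ Eh E F hcom hk)
    (nT : ∀ x ∈ Eh E F hcom hk, T * x * T⁻¹ ∈ Eh E F hcom hk) : False := by
  set Ê := Eh E F hcom hk with hÊ
  have hn : ∀ b ∈ closure {S, T}, ∀ a ∈ Ê, b * a * b⁻¹ ∈ Ê := by
    have hle : closure {S, T} ≤ normalizer (Ê : Set L) := by
      rw [closure_le]
      have key : ∀ U : L, U * U = 1 → (∀ x ∈ Ê, U * x * U⁻¹ ∈ Ê) → U ∈ normalizer (Ê : Set L) := by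
        intro U hU hx
        rw [mem_normalizer_iff]
        intro x
        refine ⟨hx x, fun h1 => ?_⟩
        have h3 := hx _ h1
        have e : U * (U * x * U⁻¹) * U⁻¹ = (U * U) * x * (U * U)⁻¹ := by group
        rw [e, hU, one_mul, inv_one, mul_one] at h3
        exact h3
      rintro x (rfl | hx)
      · exact key _ hSS nS
      · obtain rfl : x = T := hx
        exact key _ hTT nT
    intro b hb a ha
    exact (mem_normalizer_iff.1 (hle hb) a).1 ha
  have hR4 : (S * T) ^ 4 = 1 := by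
    rw [← h2]; simp only [pow_succ, pow_zero, one_mul, mul_assoc]
  have hcÊ : c ∉ Ê := by
    rintro ⟨y, hy, hcy⟩
    have h3 : π (kap F y) = 1 := by rw [← hcy, h.map_c]
    have h5 : π y = 1 := by
      apply hc.fp _ hy
      unfold kap at h3
      rw [map_mul, map_mul, map_mul, map_inv, map_inv, hF] at h3
      rw [mul_inv_eq_one] at h3
      rw [mul_inv_eq_iff_eq_mul] at h3
      exact h3
    have h6 : kap F y = 1 := by
      rcases (h.ker y).1 h5 with rfl | rfl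
      · unfold kap; group
      · unfold kap
        rw [h.cen F]; group
    rw [h6] at hcy
    exact h.ne hcy
  refine h.false_of_subgroup hc.ind (P₁ := prod Ê (closure {S, T}) hn) ?_ ?_
  · rintro ⟨a, ha, d, hd, hcd⟩
    obtain ⟨i, hi⟩ := mem_closure_pair hSS hTT hd
    have hmod : (S * T) ^ i = (S * T) ^ ((i % 4).toNat) := by
      have h3 : ((i % 4).toNat : ℤ) = i % 4 := Int.toNat_of_nonneg (Int.emod_nonneg _ (by norm_num))
      rw [← zpow_natCast, h3]
      conv_lhs => rw [← Int.mul_ediv_add_emod i 4]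
      rw [zpow_add, zpow_mul]
      have : (S * T) ^ (4 : ℤ) = 1 := by exact_mod_cast hR4
      rw [this, one_zpow, one_mul]
    have hlt : (i % 4).toNat < 4 := by
      have := Int.emod_lt_of_pos i (show (0 : ℤ) < 4 by norm_num)
      have h3 := Int.emod_nonneg i (show (4 : ℤ) ≠ 0 by norm_num)
      omega
    have hdE : π d ∈ E := by
      have h3 : d = a⁻¹ * c := by rw [hcd]; group
      obtain ⟨y, hy, rfl⟩ := ha
      rw [h3, map_mul, h.map_c, mul_one, map_inv]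
      exact inv_mem (hk y hy)
    have hST : ∀ n : ℕ, π ((S * T) ^ n) = (s * t) ^ n := fun n => by rw [map_pow, map_mul, hS, hT]
    rcases hi with rfl | rfl
    · rw [hmod] at hdE hcd
      rw [hST] at hdE
      by_cases h0 : (⟨(i % 4).toNat, hlt⟩ : Fin 4) = 0
      · have h00 : (i % 4).toNat = 0 := congrArg Fin.val h0
        rw [h00, pow_zero, mul_one] at hcd
        rw [hcd] at hcÊ
        exact hcÊ ha
      · exact hc.ED ⟨_, hlt⟩ h0 hdE
    · rw [hmod] at hdE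
      rw [map_mul, hST, hS] at hdE
      exact hc.ED' ⟨_, hlt⟩ hdE
  · rw [sup_le_iff]
    constructor
    · intro a ha
      obtain ⟨b, hb, hba⟩ := hc.surj a ha
      obtain ⟨y, rfl⟩ := h.surj b
      refine ⟨kap F y, ⟨kap F y, ⟨y, hb, rfl⟩, 1, one_mem _, by rw [mul_one]⟩, ?_⟩
      unfold kap
      rw [map_mul, map_mul, map_mul, map_inv, map_inv, hF, hba]
    · have h3 : closure {s, t} ≤ (closure {S, T}).map π := by
        rw [closure_le]
        rintro x (rfl | hx)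
        · exact ⟨S, subset_closure (Or.inl rfl), hS⟩
        · obtain rfl : x = t := hx
          exact ⟨T, subset_closure (Or.inr rfl), hT⟩
      refine (hc.hD.trans h3).trans (map_mono ?_)
      intro x hx
      exact ⟨1, one_mem _, x, hx, by rw [one_mul]⟩

/-- **The obstruction is one-dimensional.** -/
theorem ne_of_fpf [Finite L] (h : Cov π c) (hc : Conf E D f s t a₁ a₂) (good : ∀ a ∈ E, Good π a)
    (hs : Good π s) (ht : Good π t) (h2 : Good π (s * t * (s * t))) {F S y₁ y₂ : L} (hF : π F = f) (hS : π S = s)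
    (hy1 : π y₁ = a₁) (hy2 : π y₂ = a₂) : S * kap F y₁ * S⁻¹ ≠ kap F y₂ := by
  intro heq
  obtain ⟨T, hT⟩ := h.surj t
  -- the preimage of `E` is elementary abelian
  have sqE : ∀ a : L, π a ∈ E → a * a = 1 := fun a ha => good _ ha a rfl
  have hcom : ∀ a b : L, π a ∈ E → π b ∈ E → a * b = b * a := by
    intro a b ha hb
    have h3 := sqE (a * b) (by rw [map_mul]; exact mul_mem ha hb)
    calc a * b = (a * b)⁻¹ := (inv_eq_of_mul_eq_one_left h3).symm
      _ = b * a := by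
        rw [mul_inv_rev, inv_eq_of_mul_eq_one_left (sqE a ha), inv_eq_of_mul_eq_one_left (sqE b hb)]
  have kE : ∀ G : L, (∀ a ∈ E, π G * a * (π G)⁻¹ ∈ E) → ∀ y : L, π y ∈ E → π (kap G y) ∈ E := by
    intro G hG y hy
    have e : kap G y = y * (G * y⁻¹ * G⁻¹) := by unfold kap; group
    rw [e, map_mul, map_mul, map_mul, map_inv, map_inv]
    exact mul_mem hy (hG _ (inv_mem hy))
  have hk : ∀ y : L, π y ∈ E → π (kap F y) ∈ E := kE F (by rw [hF]; exact hc.fE)
  have hSS : S * S = 1 := hs S hS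
  have hTT : T * T = 1 := ht T hT
  have hSi : S⁻¹ = S := inv_eq_of_mul_eq_one_left hSS
  set R := S * T with hR
  have hRr : π R = s * t := by rw [hR, map_mul, hS, hT]
  -- `F' = R F R⁻¹` commutes with `F`
  obtain ⟨F', hF'⟩ : ∃ F', F' = R * F * R⁻¹ := ⟨_, rfl⟩
  have hFr : π F' = s * t * f * (s * t)⁻¹ := by rw [hF', map_mul, map_mul, map_inv, hRr, hF]
  have hFF : F * F' = F' * F := by
    refine h.toExt.comm_of_odd (n := 3) (by decide) ?_ ?_
    · rw [hF]; exact hc.odd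
    · rw [hF, hFr]; exact hc.comm
  -- `[y, F']` is in the image of `[·, F]`
  have key : ∀ y : L, π y ∈ E → kap F' y ∈ Eh E F hcom hk := by
    intro y hy
    obtain ⟨b, hb, hba⟩ := hc.surj _ hy
    obtain ⟨w, rfl⟩ := h.surj b
    have h3 : π (kap F w) = π y := by
      unfold kap
      rw [map_mul, map_mul, map_mul, map_inv, map_inv, hF, hba]
    have h4 : kap F' y = kap F' (kap F w) := by
      rcases h.eq_or h3 with h5 | h5
      · rw [h5]
      · rw [h5]
        unfold kap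
        rw [mul_inv_rev y c, h.inv_c]
        calc y * F' * y⁻¹ * F'⁻¹ = y * F' * (c * c) * y⁻¹ * F'⁻¹ := by rw [h.sq]; group
          _ = y * (F' * c) * (c * y⁻¹) * F'⁻¹ := by group
          _ = y * (c * F') * (c * y⁻¹) * F'⁻¹ := by rw [h.cen F']
          _ = _ := by group
    have hkF' : ∀ y : L, π y ∈ E → π (kap F' y) ∈ E := kE F' (by rw [hFr]; exact hc.rfE)
    refine ⟨kap F' w, hkF' w hb, ?_⟩
    rw [h4]
    -- `[[w, F], F'] = [[w, F'], F]`
    have m1 : π (F * w⁻¹ * F⁻¹) ∈ E := by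
      rw [map_mul, map_mul, map_inv, map_inv, hF]
      exact hc.fE _ (inv_mem hb)
    have m2 : π (F' * w⁻¹ * F'⁻¹) ∈ E := by
      rw [map_mul, map_mul, map_inv, map_inv, hFr]
      exact hc.rfE _ (inv_mem hb)
    have m3 : π (F' * (F * w * F⁻¹) * F'⁻¹) ∈ E := by
      have := hc.rfE _ (hc.fE _ hb)
      rw [← hFr, ← hF, ← map_inv, ← map_inv, ← map_mul, ← map_mul, ← map_mul, ← map_mul] at this
      exact this
    have e1 : kap F' (kap F w) = w * (F * w⁻¹ * F⁻¹) * (F' * (F * w * F⁻¹) * F'⁻¹) * (F' * w⁻¹ * F'⁻¹) := by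
      unfold kap; group
    have e2 : kap F (kap F' w) = w * (F' * w⁻¹ * F'⁻¹) * (F * (F' * w * F'⁻¹) * F⁻¹) * (F * w⁻¹ * F⁻¹) := by
      unfold kap; group
    have e3 : F * (F' * w * F'⁻¹) * F⁻¹ = F' * (F * w * F⁻¹) * F'⁻¹ := by
      calc F * (F' * w * F'⁻¹) * F⁻¹ = (F * F') * w * (F * F')⁻¹ := by group
        _ = (F' * F) * w * (F' * F)⁻¹ := by rw [hFF]
        _ = _ := by group
    rw [e1, e2, e3]
    calc w * (F * w⁻¹ * F⁻¹) * (F' * (F * w * F⁻¹) * F'⁻¹) * (F' * w⁻¹ * F'⁻¹)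
        = w * ((F * w⁻¹ * F⁻¹) * (F' * (F * w * F⁻¹) * F'⁻¹)) * (F' * w⁻¹ * F'⁻¹) := by group
      _ = w * ((F' * (F * w * F⁻¹) * F'⁻¹) * (F * w⁻¹ * F⁻¹)) * (F' * w⁻¹ * F'⁻¹) := by rw [hcom _ _ m1 m3]
      _ = w * (F' * (F * w * F⁻¹) * F'⁻¹) * ((F * w⁻¹ * F⁻¹) * (F' * w⁻¹ * F'⁻¹)) := by group
      _ = w * (F' * (F * w * F⁻¹) * F'⁻¹) * ((F' * w⁻¹ * F'⁻¹) * (F * w⁻¹ * F⁻¹)) := by rw [hcom _ _ m1 m2]
      _ = w * ((F' * (F * w * F⁻¹) * F'⁻¹) * (F' * w⁻¹ * F'⁻¹)) * (F * w⁻¹ * F⁻¹) := by group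
      _ = w * ((F' * w⁻¹ * F'⁻¹) * (F' * (F * w * F⁻¹) * F'⁻¹)) * (F * w⁻¹ * F⁻¹) := by rw [hcom _ _ m3 m2]
      _ = _ := by group
  set Ê := Eh E F hcom hk with hÊ
  have hÊE : ∀ x ∈ Ê, π x ∈ E := by
    rintro _ ⟨y, hy, rfl⟩
    exact hk y hy
  have hcÊ : c ∉ Ê := by
    rintro ⟨y, hy, hcy⟩
    have h3 : π (kap F y) = 1 := by rw [← hcy, h.map_c]
    have h5 : π y = 1 := by
      apply hc.fp _ hy
      unfold kap at h3
      rw [map_mul, map_mul, map_mul, map_inv, map_inv, hF] at h3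
      rw [mul_inv_eq_one] at h3
      rw [mul_inv_eq_iff_eq_mul] at h3
      exact h3
    have h6 : kap F y = 1 := by
      rcases (h.ker y).1 h5 with rfl | rfl
      · unfold kap; group
      · unfold kap
        rw [h.cen F]; group
    rw [h6] at hcy
    exact h.ne hcy
  have rE : ∀ a ∈ E, s * t * a * (s * t)⁻¹ ∈ E := by
    intro a ha
    have := hc.sE _ (hc.tE a ha)
    have e : s * (t * a * t⁻¹) * s⁻¹ = s * t * a * (s * t)⁻¹ := by group
    rwa [e] at this
  have nR : ∀ x ∈ Ê, R * x * R⁻¹ ∈ Ê := by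
    rintro _ ⟨y, hy, rfl⟩
    have e : R * kap F y * R⁻¹ = kap F' (R * y * R⁻¹) := by rw [hF']; unfold kap; group
    rw [e]
    apply key
    rw [map_mul, map_mul, map_inv, hRr]
    exact rE _ hy
  -- `a` such that the lift in `Ê` is in `S Ê S⁻¹`
  set E0 : Subgroup L := Ê ⊓ Ê.comap (MulAut.conj S).toMonoidHom with hE0
  have memE0 : ∀ x : L, x ∈ E0 ↔ x ∈ Ê ∧ S * x * S⁻¹ ∈ Ê := fun x => Iff.rfl
  -- every element of `E` has a lift in `Ê`
  have lift : ∀ a ∈ E, ∃ x ∈ Ê, π x = a := by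
    intro a ha
    obtain ⟨b, hb, hba⟩ := hc.surj a ha
    obtain ⟨y, rfl⟩ := h.surj b
    refine ⟨kap F y, ⟨y, hb, rfl⟩, ?_⟩
    unfold kap
    rw [map_mul, map_mul, map_mul, map_inv, map_inv, hF, hba]
  have uniq : ∀ x ∈ Ê, ∀ y ∈ Ê, π x = π y → x = y := by
    intro x hx y hy hxy
    rcases h.eq_or hxy with h3 | h3
    · exact h3
    · exfalso
      have h4 := mul_mem (inv_mem hy) hx
      rw [h3, inv_mul_cancel_left] at h4
      exact hcÊ h4
  -- `x S x S⁻¹`
  have hSc : ∀ x ∈ Ê, ∃ u ∈ Ê, S * x * S⁻¹ = u ∨ S * x * S⁻¹ = u * c := by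
    intro x hx
    obtain ⟨u, hu, hux⟩ := lift (π (S * x * S⁻¹)) (by
      rw [map_mul, map_mul, map_inv, hS]; exact hc.sE _ (hÊE x hx))
    exact ⟨u, hu, h.eq_or hux.symm⟩
  have gS : ∀ b ∈ E, ∃ x ∈ E0, π x = b * (s * b * s⁻¹) := by
    intro b hb
    obtain ⟨x, hx, rfl⟩ := lift b hb
    obtain ⟨u, hu, hux⟩ := hSc x hx
    have hu1 : π u = s * π x * s⁻¹ := by
      rcases hux with h3 | h3
      · rw [← h3, map_mul, map_mul, map_inv, hS]
      · have : π (u * c) = π u := by rw [map_mul, h.map_c, mul_one]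
        rw [← this, ← h3, map_mul, map_mul, map_inv, hS]
    refine ⟨x * u, (memE0 _).2 ⟨mul_mem hx hu, ?_⟩, by rw [map_mul, hu1]⟩
    have h4 : S * (x * u) * S⁻¹ = (S * x * S⁻¹) * (S * u * S⁻¹) := by group
    have h5 : S * (S * x * S⁻¹) * S⁻¹ = x := by
      rw [hSi]
      calc S * (S * x * S) * S = (S * S) * x * (S * S) := by group
        _ = x := by rw [hSS, one_mul, mul_one]
    rw [h4]
    rcases hux with h3 | h3
    · rw [h3] at h5 ⊢
      rw [h5]
      exact mul_mem hu hx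
    · rw [h3] at h5 ⊢
      have h6 : S * u * S⁻¹ = x * c := by
        rw [← h5]
        calc S * u * S⁻¹ = S * (u * (c * c)) * S⁻¹ := by rw [h.sq, mul_one]
          _ = S * (u * c) * (c * S⁻¹) := by group
          _ = S * (u * c) * (S⁻¹ * c) := by rw [h.cen]
          _ = _ := by group
      rw [h6]
      have h7 : u * c * (x * c) = u * x := by
        calc u * c * (x * c) = u * (c * x) * c := by group
          _ = u * (x * c) * c := by rw [h.cen]
          _ = u * x * (c * c) := by group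
          _ = _ := by rw [h.sq, mul_one]
      rw [h7]
      exact mul_mem hu hx
  have gR : ∀ b ∈ E, ∃ x ∈ E0, π x = b * (s * t * b * (s * t)⁻¹) := by
    intro b hb
    obtain ⟨x, hx, rfl⟩ := lift b hb
    refine ⟨x * (R * x * R⁻¹), (memE0 _).2 ⟨mul_mem hx (nR x hx), ?_⟩, by
      rw [map_mul, map_mul, map_mul, map_inv, hRr]⟩
    -- `S R = R⁻¹ S`
    have hSR : S * R * S⁻¹ = R⁻¹ := by
      rw [hSi, hR, mul_inv_rev, hSi, inv_eq_of_mul_eq_one_left hTT]
      calc S * (S * T) * S = (S * S) * T * S := by group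
        _ = T * S := by rw [hSS, one_mul]
    have e : S * (x * (R * x * R⁻¹)) * S⁻¹ = (S * x * S⁻¹) * (R⁻¹ * (S * x * S⁻¹) * R) := by
      calc S * (x * (R * x * R⁻¹)) * S⁻¹
          = (S * x * S⁻¹) * ((S * R * S⁻¹) * (S * x * S⁻¹) * (S * R * S⁻¹)⁻¹) := by group
        _ = _ := by rw [hSR, inv_inv]
    have nR' : ∀ x ∈ Ê, R⁻¹ * x * R ∈ Ê := by
      have h8 : R * R * (R * R) = 1 := h2 (R * R) (by rw [map_mul, hRr])
      have h9 : R⁻¹ = R * R * R := by
        rw [inv_eq_iff_mul_eq_one]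
        rw [← h8]; group
      intro x hx
      have h10 : R⁻¹ * x * R = R * (R * (R * x * R⁻¹) * R⁻¹) * R⁻¹ := by
        calc R⁻¹ * x * R = R⁻¹ * x * (R⁻¹)⁻¹ := by rw [inv_inv]
          _ = (R * R * R) * x * (R * R * R)⁻¹ := by rw [h9]
          _ = _ := by group
      rw [h10]
      exact nR _ (nR _ (nR _ hx))
    rw [e]
    obtain ⟨u, hu, hux | hux⟩ := hSc x hx
    · rw [hux]
      exact mul_mem hu (nR' u hu)
    · rw [hux]
      have h7 : u * c * (R⁻¹ * (u * c) * R) = u * (R⁻¹ * u * R) := by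
        calc u * c * (R⁻¹ * (u * c) * R) = u * (c * (R⁻¹ * u)) * c * R := by group
          _ = u * ((R⁻¹ * u) * c) * c * R := by rw [h.cen]
          _ = u * (R⁻¹ * u) * (c * c) * R := by group
          _ = _ := by rw [h.sq]; group
      rw [h7]
      exact mul_mem hu (nR' u hu)
  have nS : ∀ x ∈ Ê, S * x * S⁻¹ ∈ Ê := by
    intro x hx
    obtain ⟨b, hb, d, hd, hab⟩ := hc.gen _ (hÊE x hx)
    obtain ⟨u, hu, hub⟩ := gS b hb
    obtain ⟨w, hw, hwd⟩ := gR d hd
    have h3 : x ∈ E0 := by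
      have ha1 : π y₁ ∈ E := by rw [hy1]; exact hc.m1
      have ha2 : π y₂ ∈ E := by rw [hy2]; exact hc.m2
      have hk1 : π (kap F y₁) = a₁ * f * a₁⁻¹ * f⁻¹ := by
        unfold kap
        rw [map_mul, map_mul, map_mul, map_inv, map_inv, hF, hy1]
      rcases hab with h3 | h3
      · have h4 : x = u * w := by
          apply uniq x hx _ (mul_mem ((memE0 u).1 hu).1 ((memE0 w).1 hw).1)
          rw [h3, map_mul, hub, hwd]
        rw [h4]
        exact mul_mem hu hw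
      · have m0 : kap F y₁ ∈ E0 := (memE0 _).2 ⟨⟨y₁, ha1, rfl⟩, by rw [heq]; exact ⟨y₂, ha2, rfl⟩⟩
        have h4 : x = kap F y₁ * (u * w) := by
          apply uniq x hx _ (mul_mem ((memE0 _).1 m0).1 (mul_mem ((memE0 u).1 hu).1 ((memE0 w).1 hw).1))
          rw [h3, map_mul, map_mul, hub, hwd, hk1]
        rw [h4]
        exact mul_mem m0 (mul_mem hu hw)
    exact ((memE0 x).1 h3).2
  have nT : ∀ x ∈ Ê, T * x * T⁻¹ ∈ Ê := by
    intro x hx
    have e : T * x * T⁻¹ = S * (R * x * R⁻¹) * S⁻¹ := by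
      have h3 : T = S * R := by rw [hR, ← mul_assoc, hSS, one_mul]
      rw [h3]; group
    rw [e]
    exact nS _ (nR x hx)
  refine false_of_norm h hc hF hS hT hSS hTT ?_ hcom hk nS nT
  exact h2 (S * T * (S * T)) (by rw [map_mul, map_mul, hS, hT])

end

/-! ### The kernel is cyclic -/

/-- a finite abelian 2-group in which no subgroup of index 2 contains `w` is generated by `w` -/
theorem eq_zpowers {Z : Type*} [CommGroup Z] [Finite Z] (hp : IsPGroup 2 Z) {w : Z}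
    (h : ∀ Y : Subgroup Z, Y.index = 2 → w ∉ Y) : zpowers w = ⊤ := by
  by_contra hcon
  have : Fact (Nat.Prime 2) := ⟨Nat.prime_two⟩
  have hq : IsPGroup 2 (Z ⧸ zpowers w) := hp.to_quotient _
  obtain ⟨n, hn⟩ := IsPGroup.iff_card.1 hq
  have h1 : 2 ∣ Nat.card (Z ⧸ zpowers w) := by
    rcases n with _ | n
    · exfalso
      apply hcon
      rw [← index_eq_one, index_eq_card, hn, pow_zero]
    · rw [hn]; exact dvd_pow_self 2 (Nat.succ_ne_zero n)
  obtain ⟨Y, hY⟩ := exists_index_two h1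
  refine h (Y.comap (QuotientGroup.mk' _)) ?_ ?_
  · rw [index_comap_of_surjective _ (QuotientGroup.mk'_surjective _), hY]
  · show QuotientGroup.mk' (zpowers w) w ∈ Y
    rw [QuotientGroup.mk'_apply, (QuotientGroup.eq_one_iff w).2 (mem_zpowers w)]
    exact one_mem _

/-- the double cover `K / Y` for a central extension with kernel `Z`, `|Z : Y| = 2` -/
theorem exists_cov {K : Type u} [Group K] {X : Type v} [Group X] {π : K →* X} (hs : Function.Surjective π)
    (hp : commutator K = ⊤) (hcen : ∀ z ∈ π.ker, ∀ x, z * x = x * z) {Y : Subgroup K} (hY : Y ≤ π.ker)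
    (hYi : (Y.subgroupOf π.ker).index = 2) :
    ∃ (_ : Y.Normal) (π' : K ⧸ Y →* X) (c : K ⧸ Y), (∀ x, π' (QuotientGroup.mk' Y x) = π x) ∧ Cov π' c := by
  have hn : Y.Normal := ⟨fun n hn g => by
    rw [← hcen n (hY hn) g, mul_inv_cancel_right]; exact hn⟩
  obtain ⟨z, hz⟩ : ∃ z, z ∈ π.ker ∧ z ∉ Y := by
    by_contra hcon
    push Not at hcon
    have : Y.subgroupOf π.ker = ⊤ := subgroupOf_eq_top.2 hcon
    rw [this, index_top] at hYi
    norm_num at hYi
  have hmul : ∀ a ∈ π.ker, ∀ b ∈ π.ker, (a * b ∈ Y ↔ (a ∈ Y ↔ b ∈ Y)) := by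
    intro a ha b hb
    have := mul_mem_iff_of_index_two hYi (a := ⟨a, ha⟩) (b := ⟨b, hb⟩)
    simpa [mem_subgroupOf] using this
  refine ⟨hn, QuotientGroup.lift _ π hY, QuotientGroup.mk' Y z, fun x => rfl, ⟨?_, ?_, ?_, ?_, ?_⟩, ?_⟩
  · intro h
    rw [QuotientGroup.mk'_apply, QuotientGroup.eq_one_iff] at h
    exact hz.2 h
  · rw [← map_mul, QuotientGroup.mk'_apply, QuotientGroup.eq_one_iff]
    exact (hmul z hz.1 z hz.1).2 Iff.rfl
  · intro x
    obtain ⟨x, rfl⟩ := QuotientGroup.mk'_surjective _ x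
    rw [← map_mul, ← map_mul, hcen z hz.1]
  · intro x
    obtain ⟨y, rfl⟩ := hs x
    exact ⟨QuotientGroup.mk' _ y, rfl⟩
  · intro x
    obtain ⟨x, rfl⟩ := QuotientGroup.mk'_surjective _ x
    show π x = 1 ↔ _
    rw [QuotientGroup.mk'_apply, QuotientGroup.mk'_apply, QuotientGroup.eq_one_iff, QuotientGroup.eq]
    constructor
    · intro hx
      by_cases h1 : x ∈ Y
      · exact Or.inl h1
      · right
        rw [hmul _ (inv_mem hx) z hz.1, inv_mem_iff]
        exact iff_of_false h1 hz.2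
    · rintro (hx | hx)
      · exact hY hx
      · have h1 := hY hx
        have h2 : x = z * (x⁻¹ * z)⁻¹ := by group
        have h3 : x ∈ π.ker := by
          rw [h2]
          exact mul_mem hz.1 (inv_mem h1)
        exact h3
  · rw [commutator_def, ← Subgroup.map_top_of_surjective _ (QuotientGroup.mk'_surjective _),
      ← Subgroup.map_commutator, ← commutator_def, hp]

/-- **A perfect central extension of `X` whose kernel is a 2-group has a cyclic kernel.** -/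
theorem cyclic_of_fpf {K : Type u} [Group K] [Finite K] {X : Type v} [Group X] {π : K →* X}
    (hs : Function.Surjective π) (hp : commutator K = ⊤) (hcen : ∀ z ∈ π.ker, ∀ x, z * x = x * z)
    (h2 : IsPGroup 2 π.ker) {E D : Subgroup X} {f s t a₁ a₂ : X} (hc : Conf E D f s t a₁ a₂)
    (good : ∀ (L : Type u) [Group L] [Finite L] (π' : L →* X) (c : L), Cov π' c → (∀ a ∈ E, Good π' a) ∧
      Good π' s ∧ Good π' t ∧ Good π' (s * t * (s * t))) : IsCyclic π.ker := by
  obtain ⟨F, hF⟩ := hs f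
  obtain ⟨S, hS⟩ := hs s
  obtain ⟨y₁, hy1⟩ := hs a₁
  obtain ⟨y₂, hy2⟩ := hs a₂
  have hw : S * kap F y₁ * S⁻¹ * (kap F y₂)⁻¹ ∈ π.ker := by
    rw [MonoidHom.mem_ker]
    unfold kap
    simp only [map_mul, map_inv, hS, hF, hy1, hy2]
    have := hc.e2
    rw [this]
    group
  let w : π.ker := ⟨_, hw⟩
  let _ : CommGroup π.ker := { (inferInstance : Group π.ker) with
    mul_comm := fun a b => Subtype.ext (hcen a a.2 b) }
  have hgen : zpowers w = ⊤ := by
    apply eq_zpowers h2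
    intro Y hY hwY
    have hYle : Y.map π.ker.subtype ≤ π.ker := map_subtype_le Y
    have hYi : ((Y.map π.ker.subtype).subgroupOf π.ker).index = 2 := by
      have : (Y.map π.ker.subtype).subgroupOf π.ker = Y := by
        unfold subgroupOf
        exact comap_map_eq_self_of_injective (subtype_injective _) Y
      rw [this, hY]
    obtain ⟨hn, π', c, hπ', hcov⟩ := exists_cov hs hp hcen hYle hYi
    obtain ⟨g1, g2, g3, g4⟩ := good _ π' c hcov
    refine ne_of_fpf hcov hc g1 g2 g3 g4 (F := QuotientGroup.mk' _ F) (S := QuotientGroup.mk' _ S)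
      (y₁ := QuotientGroup.mk' _ y₁) (y₂ := QuotientGroup.mk' _ y₂) (by rw [hπ', hF]) (by rw [hπ', hS])
      (by rw [hπ', hy1]) (by rw [hπ', hy2]) ?_
    have h3 : QuotientGroup.mk' (Y.map π.ker.subtype) (S * kap F y₁ * S⁻¹ * (kap F y₂)⁻¹) = 1 := by
      rw [QuotientGroup.mk'_apply, QuotientGroup.eq_one_iff]
      exact ⟨w, hwY, rfl⟩
    unfold kap at h3 ⊢
    rw [map_mul, map_inv, mul_inv_eq_one] at h3
    simp only [map_mul, map_inv] at h3 ⊢
    exact h3
  refine ⟨w, fun x => ?_⟩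
  have hx : x ∈ zpowers w := by rw [hgen]; exact mem_top x
  obtain ⟨k, hk⟩ := mem_zpowers_iff.1 hx
  exact ⟨k, hk⟩

end Cfsg.Agent.KFacts.MulM22.Fpf
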