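import Cfsg.Agent.KFacts.MulM22.Eight
import Cfsg.Agent.KFacts.MulSmall
import Cfsg.Agent.SporadicStructure.M24El
import Cfsg.Agent.SporadicA.MathieuRecog
import Cfsg.Prelude.Def_Spor_Mathieu

/-!
# Central extensions of `M22` by a cyclic 2-group (helper281)

`Main.not_cyc8` : no finite perfect central extension of `M22` has a cyclic kernel of order divisible by 8
(the data follow helper40's file for `M23`)
-/

set_option autoImplicit false
set_option Elab.async false

namespace Cfsg.Agent.KFacts.MulM22.Main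

open Cfsg Cfsg.Spor Cfsg.Agent.SporadicA.GolayBase Cfsg.Agent.SporadicA.GolayPerm
open Cfsg.Agent.SporadicStructure.M24El
open Cfsg.Agent.KFacts.MulCov Cfsg.Agent.KFacts.MulSmall Cfsg.Agent.KFacts.MulM22.Eight

/-! ### Packed elements of `M22` -/

/-- Whether `P` packs an element of `M22`. -/
def ok2 (P : ℕ) : Bool := ok P && Nat.beq (papp P 23) 23 && Nat.beq (papp P 0) 0

theorem ok2_iff {P : ℕ} : ok2 P = true ↔ ok P = true ∧ papp P 23 = 23 ∧ papp P 0 = 0 := by
  unfold ok2
  rw [Bool.and_eq_true, Bool.and_eq_true, and_assoc]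
  exact and_congr_right fun _ => ⟨fun h => ⟨Nat.eq_of_beq_eq_true h.1, Nat.eq_of_beq_eq_true h.2⟩,
    fun h => by rw [h.1, h.2]; exact ⟨rfl, rfl⟩⟩

theorem mem_M22 {P : ℕ} (h : ok2 P = true) : (el P : Equiv.Perm GolayPt) ∈ M22 := by
  obtain ⟨h1, h2, h0⟩ := ok2_iff.1 h
  have key : ∀ (x : GolayPt) (i : ℕ), idx x = i → papp P i = i → (el P : Equiv.Perm GolayPt) x = x := by
    intro x i hx hi
    have h3 := idx_el_smul h1 x
    rw [hx, hi] at h3
    have h5 : pt (idx (el P • x)) = pt i := by rw [h3]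
    rw [pt_idx, ← hx, pt_idx] at h5
    exact h5
  rw [Cfsg.Agent.SporadicA.MathieuRecog.mem_M22_iff]
  exact ⟨(el P).2, key _ 23 rfl h2, key _ 0 rfl h0⟩

open Classical in
/-- The element of `M22` packed in `P`. -/
noncomputable def e2 (P : ℕ) : M22 := if h : ok2 P = true then ⟨(el P : Equiv.Perm GolayPt), mem_M22 h⟩ else 1

theorem coe_e2 {P : ℕ} (h : ok2 P = true) : (e2 P : Equiv.Perm GolayPt) = el P := by
  unfold e2
  rw [dif_pos h]

theorem papp_pcomp {P Q : ℕ} (hP : ok P = true) (hQ : ok Q = true) {i : ℕ} (hi : i < 24) :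
    papp (pcomp P Q) i = papp P (papp Q i) := by
  have h1 := idx_el_smul (ok_pcomp hP hQ) (pt i)
  rw [el_pcomp hP hQ, mul_smul, idx_el_smul hP, idx_el_smul hQ, idx_pt hi] at h1
  exact h1.symm

theorem ok2_pcomp {P Q : ℕ} (hP : ok2 P = true) (hQ : ok2 Q = true) : ok2 (pcomp P Q) = true := by
  obtain ⟨h1, h2, h2'⟩ := ok2_iff.1 hP
  obtain ⟨h3, h4, h4'⟩ := ok2_iff.1 hQ
  refine ok2_iff.2 ⟨ok_pcomp h1 h3, ?_, ?_⟩
  · rw [papp_pcomp h1 h3 (by norm_num), h4, h2]
  · rw [papp_pcomp h1 h3 (by norm_num), h4', h2']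

theorem e2_pcomp {P Q : ℕ} (hP : ok2 P = true) (hQ : ok2 Q = true) : e2 (pcomp P Q) = e2 P * e2 Q := by
  apply Subtype.ext
  rw [Subgroup.coe_mul, coe_e2 (ok2_pcomp hP hQ), coe_e2 hP, coe_e2 hQ, el_pcomp (ok2_iff.1 hP).1 (ok2_iff.1 hQ).1,
    Subgroup.coe_mul]

theorem ok2_idP : ok2 idP = true := by decide +kernel

theorem e2_idP : e2 idP = 1 := by
  apply Subtype.ext
  rw [coe_e2 ok2_idP, el_idP]; rfl

theorem mul_eq {P Q P' Q' : ℕ} (h1 : ok2 P = true) (h2 : ok2 Q = true) (h3 : ok2 P' = true) (h4 : ok2 Q' = true)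
    (h : pcomp P Q = pcomp P' Q') : e2 P * e2 Q = e2 P' * e2 Q' := by
  rw [← e2_pcomp h1 h2, ← e2_pcomp h3 h4, h]

theorem mul_eq1 {P Q R : ℕ} (h1 : ok2 P = true) (h2 : ok2 Q = true) (h : pcomp P Q = R) : e2 P * e2 Q = e2 R := by
  rw [← e2_pcomp h1 h2, h]

theorem ne_of_app {P Q : ℕ} (h1 : ok2 P = true) (h2 : ok2 Q = true) {i : ℕ} (hi : i < 24)
    (h : papp P i ≠ papp Q i) : e2 P ≠ e2 Q := by
  intro he
  have h3 : (el P : Equiv.Perm GolayPt) = el Q := by rw [← coe_e2 h1, ← coe_e2 h2, he]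
  have h4 : el P = el Q := Subtype.ext h3
  have h5 := idx_el_smul (ok2_iff.1 h1).1 (pt i)
  have h6 := idx_el_smul (ok2_iff.1 h2).1 (pt i)
  rw [idx_pt hi] at h5 h6
  exact h (by rw [← h5, ← h6, h4])

/-- packed permutations which differ somewhere -/
def df (P Q : ℕ) : Bool := !((List.range 24).all fun i => Nat.beq (papp P i) (papp Q i))

theorem ne_of_df {P Q : ℕ} (h1 : ok2 P = true) (h2 : ok2 Q = true) (h : df P Q = true) : e2 P ≠ e2 Q := by
  intro he
  unfold df at h
  rw [Bool.not_eq_true', ← Bool.not_eq_true, List.all_eq_true] at h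
  apply h
  intro i hi
  have hi' : i < 24 := List.mem_range.1 hi
  by_contra hne
  refine ne_of_app h1 h2 hi' (fun h7 => hne ?_) he
  rw [h7]; exact Nat.beq_refl _

/-! ### Subgroups given by lists -/

/-- checks for a list of packed elements to be a subgroup with `l.length` elements -/
def okl (l : List ℕ) : Bool :=
  (l.all fun P => ok2 P) && (l.any fun P => Nat.beq P idP) &&
  (l.all fun P => l.all fun Q => l.any fun R => Nat.beq (pcomp P Q) R) &&
  (l.all fun P => l.any fun Q => Nat.beq (pcomp P Q) idP) &&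
  (l.all fun P => l.all fun Q => Nat.beq P Q || df P Q)

theorem okl_iff {l : List ℕ} (h : okl l = true) : (∀ P ∈ l, ok2 P = true) ∧ idP ∈ l ∧
    (∀ P ∈ l, ∀ Q ∈ l, pcomp P Q ∈ l) ∧ (∀ P ∈ l, ∃ Q ∈ l, pcomp P Q = idP) ∧
    (∀ P ∈ l, ∀ Q ∈ l, P = Q ∨ df P Q = true) := by
  unfold okl at h
  simp only [Bool.and_eq_true, List.all_eq_true, List.any_eq_true, Bool.or_eq_true] at h
  obtain ⟨⟨⟨⟨h1, h2⟩, h3⟩, h4⟩, h5⟩ := h
  refine ⟨h1, ?_, ?_, ?_, ?_⟩
  · obtain ⟨P, hP, h6⟩ := h2
    rw [Nat.eq_of_beq_eq_true h6] at hP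
    exact hP
  · intro P hP Q hQ
    obtain ⟨R, hR, h6⟩ := h3 P hP Q hQ
    rw [Nat.eq_of_beq_eq_true h6]; exact hR
  · intro P hP
    obtain ⟨Q, hQ, h6⟩ := h4 P hP
    exact ⟨Q, hQ, Nat.eq_of_beq_eq_true h6⟩
  · intro P hP Q hQ
    exact (h5 P hP Q hQ).imp Nat.eq_of_beq_eq_true id

/-- the subgroup of a list -/
noncomputable def lsub (l : List ℕ) (h : okl l = true) : Subgroup M22 where
  carrier := {x | ∃ P ∈ l, x = e2 P}
  one_mem' := ⟨idP, (okl_iff h).2.1, e2_idP.symm⟩
  mul_mem' := by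
    obtain ⟨h1, -, h3, -, -⟩ := okl_iff h
    rintro _ _ ⟨P, hP, rfl⟩ ⟨Q, hQ, rfl⟩
    exact ⟨_, h3 P hP Q hQ, (e2_pcomp (h1 P hP) (h1 Q hQ)).symm⟩
  inv_mem' := by
    obtain ⟨h1, -, -, h4, -⟩ := okl_iff h
    rintro _ ⟨P, hP, rfl⟩
    obtain ⟨Q, hQ, h6⟩ := h4 P hP
    refine ⟨Q, hQ, ?_⟩
    apply inv_eq_of_mul_eq_one_right
    rw [mul_eq1 (h1 P hP) (h1 Q hQ) h6, e2_idP]

theorem mem_lsub {l : List ℕ} {h : okl l = true} {x : M22} : x ∈ lsub l h ↔ ∃ P ∈ l, x = e2 P := Iff.rfl

theorem card_lsub {l : List ℕ} (h : okl l = true) (hnd : l.Nodup) : Nat.card (lsub l h) = l.length := by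
  classical
  obtain ⟨h1, -, -, -, h5⟩ := okl_iff h
  have hinj : Set.InjOn e2 (l.toFinset : Set ℕ) := by
    intro P hP Q hQ he
    have hP' : P ∈ l := by simpa using hP
    have hQ' : Q ∈ l := by simpa using hQ
    rcases h5 P hP' Q hQ' with h6 | h6
    · exact h6
    · exact absurd he (ne_of_df (h1 P hP') (h1 Q hQ') h6)
  have hset : ((lsub l h : Subgroup M22) : Set M22) = ((l.toFinset.image e2 : Finset M22) : Set M22) := by
    ext x
    rw [SetLike.mem_coe, mem_lsub, Finset.coe_image, Set.mem_image]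
    constructor
    · rintro ⟨P, hP, rfl⟩
      exact ⟨P, by simpa using hP, rfl⟩
    · rintro ⟨P, hP, rfl⟩
      exact ⟨P, by simpa using hP, rfl⟩
  have h6 : Nat.card (lsub l h) = Nat.card ((l.toFinset.image e2 : Finset M22) : Set M22) := by
    rw [← hset]; rfl
  rw [h6, Nat.card_coe_set_eq, Set.ncard_coe_finset, Finset.card_image_of_injOn hinj, List.toFinset_card_of_nodup hnd]

/-! ### Data -/

/-- the elementary abelian subgroup of order 16 -/
def LE : List ℕ := [
  984818244535754528103549039458486304, 984330238668445353307680420861740096,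
  984561664131678682933695704404628576, 984365217902686453248235801272398976,
  984232233431490913630068531325373600, 984474077397641743376427032193378496,
  984159739662526352166722481920720096, 984778551226145691544909149262458112,
  984035668360141982437242148508390688, 984106537951624291307853224808683840,
  984723249968559545477841165439377760, 984193134333667655196206109968142752,
  984067557695403189637163205127740896, 984389065579339274464679472059863648,
  984266143084858087375752989286682240, 983991419431302060320892116034627232]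

/-- a dihedral group of order 8 normalising it -/
def LD : List ℕ := [
  984818244535754528103549039458486304, 979610173807583199339836348881318944,
  971836823997827022130526746590039072, 974418206240859719514978824303744032,
  979625635716138325955160962816418848, 971821815175309450842214300706641952,
  974433247249825690626314945982442528, 984802512756263237727643185327479840]

/-- an involution -/
def ps : ℕ := 979625635716138325955160962816418848

/-- an involution -/
def pt' : ℕ := 984802512756263237727643185327479840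

/-- an involution of `LE` -/
def pa : ℕ := 984330238668445353307680420861740096

/-- an involution of `LE` -/
def py : ℕ := 984561664131678682933695704404628576

/-- involutions `y` with an element conjugating `pa` to `y` -/
def LC : List (ℕ × ℕ) := [
  (984561664131678682933695704404628576, 984560434813098419994879357233737120),
  (984365217902686453248235801272398976, 977753664912582602887429172651676992),
  (984232233431490913630068531325373600, 984284164902314444654020816285276800),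
  (984474077397641743376427032193378496, 983986262059763857890275222703278400),
  (984159739662526352166722481920720096, 974378506813335826999758160828372640),
  (984778551226145691544909149262458112, 976439742363652268247583620423362144),
  (984035668360141982437242148508390688, 976404218436964467345685457028879840),
  (984106537951624291307853224808683840, 971057496370871818508010300716197920),
  (984723249968559545477841165439377760, 974332910778457617227307420124195872),
  (984193134333667655196206109968142752, 977613945900799249070159672670067360),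
  (984067557695403189637163205127740896, 979617068979047857605049754411244608),
  (984389065579339274464679472059863648, 978068869057868081256358113747015776),
  (984266143084858087375752989286682240, 977759248181629214425604038922963552),
  (983991419431302060320892116034627232, 973769988690088863880540955302400320),
  (979625635716138325955160962816418848, 976536329269102962009893014212261088),
  (984802512756263237727643185327479840, 975099938411238935630779807996977792),
  (971836823997827022130526746590039072, 976439053140372510677408532428892288)]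

theorem okE : okl LE = true := by decide +kernel
theorem okD : okl LD = true := by decide +kernel

theorem nodupE : LE.Nodup := by decide +kernel
theorem nodupD : LD.Nodup := by decide +kernel

theorem okG : (ok2 ps && ok2 pt' && ok2 pa && ok2 py && (LC.all fun P => ok2 P.1 && ok2 P.2)) = true := by
  decide +kernel

theorem chkC : (LC.all fun P => Nat.beq (pcomp P.2 pa) (pcomp P.1 P.2)) = true := by decide +kernel

/-- every element of `LE` is trivial, `pa` or in `LC` -/
theorem chkE : (LE.all fun P => Nat.beq (pcomp P P) idP &&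
    (Nat.beq P idP || Nat.beq P pa || LC.any fun Q => Nat.beq Q.1 P)) = true := by
  decide +kernel

theorem chkF : (LE.all fun P => (LE.any fun Q => Nat.beq (pcomp ps P) (pcomp Q ps)) &&
    (LE.any fun Q => Nat.beq (pcomp pt' P) (pcomp Q pt'))) = true := by decide +kernel

theorem chkD : LD = [idP, pcomp ps pt', pcomp (pcomp ps pt') (pcomp ps pt'),
    pcomp (pcomp (pcomp ps pt') (pcomp ps pt')) (pcomp ps pt'), ps, pcomp (pcomp ps pt') ps,
    pcomp (pcomp (pcomp ps pt') (pcomp ps pt')) ps,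
    pcomp (pcomp (pcomp (pcomp ps pt') (pcomp ps pt')) (pcomp ps pt')) ps] := by decide +kernel

theorem chkDE : (LD.all fun P => Nat.beq P idP || LE.all fun Q => df P Q) = true := by decide +kernel

theorem chkDn : (LD.all fun P => LE.all fun Q => LE.any fun R => Nat.beq (pcomp P Q) (pcomp R P)) = true := by
  decide +kernel

theorem chkS : (Nat.beq (pcomp (pcomp (pcomp ps pt') (pcomp ps pt')) (pcomp (pcomp ps pt') (pcomp ps pt'))) idP &&
    (LC.any fun Q => Nat.beq Q.1 ps) && (LC.any fun Q => Nat.beq Q.1 pt') &&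
    (LC.any fun Q => Nat.beq Q.1 (pcomp (pcomp ps pt') (pcomp ps pt')))) = true := by decide +kernel

theorem chkA : (Nat.beq (pcomp pa pa) idP && Nat.beq (pcomp py py) idP && Nat.beq (pcomp pa py) (pcomp py pa) &&
    (LC.any fun Q => Nat.beq Q.1 py) && (LC.any fun Q => Nat.beq Q.1 (pcomp pa py))) = true := by decide +kernel

/-! ### The theorem -/

theorem okl_E {P : ℕ} (h : P ∈ LE) : ok2 P = true := (okl_iff okE).1 P h
theorem okl_D {P : ℕ} (h : P ∈ LD) : ok2 P = true := (okl_iff okD).1 P h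

theorem ok_s : ok2 ps = true := by have := okG; simp only [Bool.and_eq_true] at this; exact this.1.1.1.1
theorem ok_t : ok2 pt' = true := by have := okG; simp only [Bool.and_eq_true] at this; exact this.1.1.1.2
theorem ok_a : ok2 pa = true := by have := okG; simp only [Bool.and_eq_true] at this; exact this.1.1.2
theorem ok_y : ok2 py = true := by have := okG; simp only [Bool.and_eq_true] at this; exact this.1.2
theorem ok_C : ∀ P ∈ LC, ok2 P.1 = true ∧ ok2 P.2 = true := by
  have := okG; simp only [Bool.and_eq_true, List.all_eq_true] at this; exact this.2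

/-- elements of `LC` are conjugate to `pa` -/
theorem conj_C {P : ℕ} (hP : (LC.any fun Q => Nat.beq Q.1 P) = true) : IsConj (e2 pa) (e2 P) := by
  rw [List.any_eq_true] at hP
  obtain ⟨Q, hQ, hQP⟩ := hP
  have hQP' : Q.1 = P := Nat.eq_of_beq_eq_true hQP
  subst hQP'
  have hk := chkC
  rw [List.all_eq_true] at hk
  have h1 := Nat.eq_of_beq_eq_true (hk Q hQ)
  have h2 := mul_eq (ok_C Q hQ).2 ok_a (ok_C Q hQ).1 (ok_C Q hQ).2 h1
  exact isConj_iff.2 ⟨e2 Q.2, by rw [h2, mul_inv_cancel_right]⟩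

theorem aa : e2 pa * e2 pa = 1 := by
  have hk := chkA
  simp only [Bool.and_eq_true] at hk
  rw [mul_eq1 ok_a ok_a (Nat.eq_of_beq_eq_true hk.1.1.1.1), e2_idP]

section

variable {L : Type*} [Group L] {π : L →* M22} {c : L}

theorem good_A (h : Cyc8 π c) : Cyc8.Good π c (e2 pa) := by
  have hk := chkA
  simp only [Bool.and_eq_true] at hk
  obtain ⟨⟨⟨⟨-, h1⟩, h2⟩, h3⟩, h4⟩ := hk
  refine h.good_four (y := e2 py) aa ?_ ?_ (conj_C h3) ?_
  · rw [mul_eq1 ok_y ok_y (Nat.eq_of_beq_eq_true h1), e2_idP]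
  · exact mul_eq ok_a ok_y ok_y ok_a (Nat.eq_of_beq_eq_true h2)
  · rw [← e2_pcomp ok_a ok_y]
    exact conj_C h4

theorem good_C (h : Cyc8 π c) {P : ℕ} (hP : (LC.any fun Q => Nat.beq Q.1 P) = true) : Cyc8.Good π c (e2 P) :=
  h.good_conj (conj_C hP) aa (good_A h)

theorem good_E (h : Cyc8 π c) {P : ℕ} (hP : P ∈ LE) : Cyc8.Good π c (e2 P) := by
  have hk := chkE
  rw [List.all_eq_true] at hk
  have h1 := hk P hP
  simp only [Bool.and_eq_true, Bool.or_eq_true] at h1
  rcases h1.2 with (h1 | h1) | h1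
  · rw [Nat.eq_of_beq_eq_true h1, e2_idP]
    have h2 : Cyc8.Good π c (π 1) := h.good_of (by rw [one_mul]; exact one_mem _)
    rwa [map_one] at h2
  · rw [Nat.eq_of_beq_eq_true h1]; exact good_A h
  · exact good_C h h1

end

theorem card_eq : Nat.card M22 = 2 ^ 7 * 3465 := by
  rw [Cfsg.Agent.SporadicA.MathieuRecog.card_M22]; norm_num

theorem index_odd : ¬ 2 ∣ (lsub LE okE ⊔ lsub LD okD).index := by
  refine not_two_dvd_index (n := 7) (m := 3465) ?_ card_eq (by decide)
  set E := lsub LE okE with hE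
  set D := lsub LD okD with hD
  have hcE : Nat.card E = 16 := card_lsub okE nodupE
  have hcD : Nat.card D = 8 := card_lsub okD nodupD
  have hn : D ≤ Subgroup.normalizer (E : Set M22) := by
    intro x hx
    have key : ∀ y ∈ D, ∀ a ∈ E, y * a * y⁻¹ ∈ E := by
      rintro _ ⟨P, hP, rfl⟩ _ ⟨Q, hQ, rfl⟩
      have hk := chkDn
      rw [List.all_eq_true] at hk
      have h1 := hk P hP
      rw [List.all_eq_true] at h1
      have h2 := h1 Q hQ
      rw [List.any_eq_true] at h2
      obtain ⟨R, hR, h3⟩ := h2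
      refine ⟨R, hR, ?_⟩
      rw [mul_eq (okl_D hP) (okl_E hQ) (okl_E hR) (okl_D hP) (Nat.eq_of_beq_eq_true h3), mul_inv_cancel_right]
    rw [Subgroup.mem_normalizer_iff]
    intro a
    refine ⟨key x hx a, fun h1 => ?_⟩
    have h2 := key x⁻¹ (inv_mem hx) _ h1
    have e : x⁻¹ * (x * a * x⁻¹) * (x⁻¹)⁻¹ = a := by group
    rwa [e] at h2
  have hdis : ∀ x ∈ E, x ∈ D → x = 1 := by
    rintro _ ⟨Q, hQ, rfl⟩ ⟨P, hP, h1⟩
    have hk := chkDE
    rw [List.all_eq_true] at hk
    have h2 := hk P hP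
    rw [Bool.or_eq_true] at h2
    rcases h2 with h2 | h2
    · rw [h1, Nat.eq_of_beq_eq_true h2, e2_idP]
    · rw [List.all_eq_true] at h2
      exact absurd h1.symm (ne_of_df (okl_D hP) (okl_E hQ) (h2 Q hQ))
  set K := E ⊔ D with hK
  have hEn : (E.subgroupOf K).Normal := by
    rw [Subgroup.normal_subgroupOf_iff_le_normalizer le_sup_left, sup_le_iff]
    exact ⟨Subgroup.le_normalizer, hn⟩
  have hcomp : Subgroup.IsComplement' (E.subgroupOf K) (D.subgroupOf K) := by
    apply Subgroup.isComplement'_of_disjoint_and_mul_eq_univ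
    · rw [Subgroup.disjoint_def]
      intro x hx hx'
      exact Subtype.ext (hdis x (Subgroup.mem_subgroupOf.1 hx) (Subgroup.mem_subgroupOf.1 hx'))
    · rw [← Subgroup.normal_mul, ← Subgroup.subgroupOf_sup le_sup_left le_sup_right, Subgroup.subgroupOf_self]
      rfl
  have h1 := hcomp.card_mul_card
  rw [Nat.card_congr (Subgroup.subgroupOfEquivOfLe (show E ≤ K from le_sup_left)).toEquiv,
    Nat.card_congr (Subgroup.subgroupOfEquivOfLe (show D ≤ K from le_sup_right)).toEquiv, hcE, hcD] at h1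
  rw [← h1]; norm_num

theorem chkDE' : ((List.range 4).all fun i => (Nat.beq i 0 || LE.all fun Q => df (LD.getD i idP) Q) &&
    LE.all fun Q => df (LD.getD (4 + i) idP) Q) = true := by decide +kernel

theorem okD_get (i : ℕ) : ok2 (LD.getD i idP) = true := by
  by_cases hi : i < LD.length
  · rw [List.getD_eq_getElem _ _ hi]
    exact okl_D (List.getElem_mem hi)
  · rw [List.getD_eq_default _ _ (by omega)]
    exact ok2_idP

theorem ok_r : ok2 (pcomp ps pt') = true := ok2_pcomp ok_s ok_t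

theorem pow_st (i : Fin 4) : (e2 ps * e2 pt') ^ (i : ℕ) = e2 (LD.getD i idP) ∧
    (e2 ps * e2 pt') ^ (i : ℕ) * e2 ps = e2 (LD.getD (4 + i) idP) := by
  have h0 : LD.getD 0 idP = idP := by rw [chkD]; rfl
  have h1 : LD.getD 1 idP = pcomp ps pt' := by rw [chkD]; rfl
  have h2 : LD.getD 2 idP = pcomp (pcomp ps pt') (pcomp ps pt') := by rw [chkD]; rfl
  have h3 : LD.getD 3 idP = pcomp (pcomp (pcomp ps pt') (pcomp ps pt')) (pcomp ps pt') := by rw [chkD]; rfl
  have h4 : LD.getD 4 idP = ps := by rw [chkD]; rfl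
  have h5 : LD.getD 5 idP = pcomp (pcomp ps pt') ps := by rw [chkD]; rfl
  have h6 : LD.getD 6 idP = pcomp (pcomp (pcomp ps pt') (pcomp ps pt')) ps := by rw [chkD]; rfl
  have h7 : LD.getD 7 idP = pcomp (pcomp (pcomp (pcomp ps pt') (pcomp ps pt')) (pcomp ps pt')) ps := by
    rw [chkD]; rfl
  have e1 : e2 ps * e2 pt' = e2 (pcomp ps pt') := (e2_pcomp ok_s ok_t).symm
  have ee2 : e2 (pcomp ps pt') * e2 (pcomp ps pt') = e2 (pcomp (pcomp ps pt') (pcomp ps pt')) :=
    (e2_pcomp ok_r ok_r).symm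
  have okk2 : ok2 (pcomp (pcomp ps pt') (pcomp ps pt')) = true := ok2_pcomp ok_r ok_r
  have ee3 : e2 (pcomp (pcomp ps pt') (pcomp ps pt')) * e2 (pcomp ps pt') =
      e2 (pcomp (pcomp (pcomp ps pt') (pcomp ps pt')) (pcomp ps pt')) := (e2_pcomp okk2 ok_r).symm
  have okk3 : ok2 (pcomp (pcomp (pcomp ps pt') (pcomp ps pt')) (pcomp ps pt')) = true := ok2_pcomp okk2 ok_r
  rw [e1]
  fin_cases i
  · show e2 (pcomp ps pt') ^ 0 = e2 (LD.getD 0 idP) ∧ e2 (pcomp ps pt') ^ 0 * e2 ps = e2 (LD.getD 4 idP)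
    rw [pow_zero, h0, e2_idP, one_mul, h4]
    exact ⟨rfl, rfl⟩
  · show e2 (pcomp ps pt') ^ 1 = e2 (LD.getD 1 idP) ∧ e2 (pcomp ps pt') ^ 1 * e2 ps = e2 (LD.getD 5 idP)
    rw [pow_one, h1, h5, e2_pcomp ok_r ok_s]
    exact ⟨rfl, rfl⟩
  · show e2 (pcomp ps pt') ^ 2 = e2 (LD.getD 2 idP) ∧ e2 (pcomp ps pt') ^ 2 * e2 ps = e2 (LD.getD 6 idP)
    rw [pow_two, ee2, h2, h6, e2_pcomp okk2 ok_s]
    exact ⟨rfl, rfl⟩
  · show e2 (pcomp ps pt') ^ 3 = e2 (LD.getD 3 idP) ∧ e2 (pcomp ps pt') ^ 3 * e2 ps = e2 (LD.getD 7 idP)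
    rw [pow_succ, pow_two, ee2, ee3, h3, h7, e2_pcomp okk3 ok_s]
    exact ⟨rfl, rfl⟩

/-- **A finite perfect central extension of `M22` with cyclic kernel has kernel of order not divisible by 8.** -/
theorem not_cyc8 {L : Type*} [Group L] [Finite L] {π : L →* M22} {c : L} (h : Cyc8 π c) : False := by
  have hF : ∀ P ∈ LE, (∃ Q ∈ LE, pcomp ps P = pcomp Q ps) ∧ (∃ Q ∈ LE, pcomp pt' P = pcomp Q pt') := by
    intro P hP
    have hk := chkF
    rw [List.all_eq_true] at hk
    have h1 := hk P hP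
    simp only [Bool.and_eq_true, List.any_eq_true] at h1
    obtain ⟨⟨Q4, m4, h4⟩, ⟨Q5, m5, h5⟩⟩ := h1
    exact ⟨⟨Q4, m4, Nat.eq_of_beq_eq_true h4⟩, ⟨Q5, m5, Nat.eq_of_beq_eq_true h5⟩⟩
  have hS := chkS
  simp only [Bool.and_eq_true] at hS
  obtain ⟨⟨⟨s6, s7⟩, s8⟩, s9⟩ := hS
  have okrr : ok2 (pcomp (pcomp ps pt') (pcomp ps pt')) = true := ok2_pcomp ok_r ok_r
  refine h.false_of (E := lsub LE okE) (D := lsub LD okD) (s := e2 ps) (t := e2 pt')
    ?_ ?_ ?_ (good_C h s7) (good_C h s8) ?_ ?_ ?_ ?_ ?_ ?_ index_odd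
  · rintro _ ⟨P, hP, rfl⟩
    have hk := chkE
    rw [List.all_eq_true] at hk
    have h1 := hk P hP
    rw [Bool.and_eq_true] at h1
    rw [mul_eq1 (okl_E hP) (okl_E hP) (Nat.eq_of_beq_eq_true h1.1), e2_idP]
  · rintro _ ⟨P, hP, rfl⟩
    exact good_E h hP
  · rintro _ ⟨P, hP, rfl⟩
    have ms : e2 ps ∈ Subgroup.closure {e2 ps, e2 pt'} := Subgroup.subset_closure (Or.inl rfl)
    have mt : e2 pt' ∈ Subgroup.closure {e2 ps, e2 pt'} := Subgroup.subset_closure (Or.inr rfl)
    have mi : ∀ i : Fin 4, e2 (LD.getD i idP) ∈ Subgroup.closure {e2 ps, e2 pt'} ∧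
        e2 (LD.getD (4 + i) idP) ∈ Subgroup.closure {e2 ps, e2 pt'} := fun i => by
      rw [← (pow_st i).1, ← (pow_st i).2]
      exact ⟨pow_mem (mul_mem ms mt) _, mul_mem (pow_mem (mul_mem ms mt) _) ms⟩
    have hlen : LD.length = 8 := rfl
    obtain ⟨n, hn, hnP⟩ := List.getElem_of_mem hP
    have e : P = LD.getD n idP := by rw [List.getD_eq_getElem _ _ hn, hnP]
    rw [hlen] at hn
    rw [e]
    by_cases h4 : n < 4
    · exact (mi ⟨n, h4⟩).1
    · have := (mi ⟨n - 4, by omega⟩).2
      rwa [show 4 + ((⟨n - 4, by omega⟩ : Fin 4) : ℕ) = n from by show 4 + (n - 4) = n; omega] at this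
  · rw [← e2_pcomp ok_s ok_t, ← e2_pcomp ok_r ok_r]
    exact good_C h s9
  · have : e2 (pcomp (pcomp (pcomp ps pt') (pcomp ps pt')) (pcomp (pcomp ps pt') (pcomp ps pt'))) = 1 := by
      rw [Nat.eq_of_beq_eq_true s6, e2_idP]
    rw [← this, e2_pcomp okrr okrr, e2_pcomp ok_r ok_r, e2_pcomp ok_s ok_t]
    simp only [pow_succ, pow_zero, one_mul, mul_assoc]
  · rintro _ ⟨P, hP, rfl⟩
    obtain ⟨Q, hQ, h1⟩ := (hF P hP).1
    refine ⟨Q, hQ, ?_⟩
    rw [mul_eq ok_s (okl_E hP) (okl_E hQ) ok_s h1, mul_inv_cancel_right]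
  · rintro _ ⟨P, hP, rfl⟩
    obtain ⟨Q, hQ, h1⟩ := (hF P hP).2
    refine ⟨Q, hQ, ?_⟩
    rw [mul_eq ok_t (okl_E hP) (okl_E hQ) ok_t h1, mul_inv_cancel_right]
  · rintro i hi ⟨Q, hQ, h1⟩
    have hk := chkDE'
    simp only [Bool.and_eq_true, Bool.or_eq_true, List.all_eq_true, List.mem_range] at hk
    rw [(pow_st i).1] at h1
    rcases (hk i i.2).1 with h2 | h2
    · exact hi (Fin.ext (Nat.eq_of_beq_eq_true h2))
    · exact ne_of_df (okD_get _) (okl_E hQ) (h2 Q hQ) h1
  · rintro i ⟨Q, hQ, h1⟩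
    have hk := chkDE'
    simp only [Bool.and_eq_true, Bool.or_eq_true, List.all_eq_true, List.mem_range] at hk
    rw [(pow_st i).2] at h1
    exact ne_of_df (okD_get _) (okl_E hQ) ((hk i i.2).2 Q hQ) h1

end Cfsg.Agent.KFacts.MulM22.Main
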