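import Cfsg.Agent.KFacts.MulM22.Cyc
import Cfsg.Agent.OddHalf.D4.MultOf

/-!
# D4: the row `NCRows.m22` (helper281)

`nonCyc_m22`: no quasisimple group over `M22` has a noncyclic centre that is a 2-group.
`card_center_dvd`: the centre, if a 2-group, has order dividing 4.
-/

set_option autoImplicit false

namespace Cfsg.Agent.KFacts.MulM22.NonCyc

open Subgroup Cfsg Cfsg.Agent.OddHalf.D4.Cut Cfsg.Agent.OddHalf.D4.MultOf

universe u

/-- **The row `NCRows.m22`.** -/
theorem nonCyc_m22 : Cfsg.Agent.OddHalf.D4.MultOf.NonCyc.{u} (fun X _ => Spor.IsoM22 X) := by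
  intro K _ hK hX
  have := hK.1
  exact hK.2.2.2 (Cyc.cyclic_center hK.2.1.1.commutator_eq_top hK.2.2.1 hX)

/-- the centre, if a 2-group, has order dividing 4 -/
theorem card_center_dvd {K : Type u} [Group K] (hf : Finite K) (hq : IsQuasisimple K)
    (h2 : IsPGroup 2 ↥(center K)) (hX : Spor.IsoM22 (K ⧸ center K)) : Nat.card ↥(center K) ∣ 4 :=
  Row.bd_m22 K ⟨hf, hq, h2, Cyc.cyclic_center hq.1.commutator_eq_top h2 hX⟩ hX

end Cfsg.Agent.KFacts.MulM22.NonCyc
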